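import Cfsg.Prelude.Def_TwoFusion
import Cfsg.Prelude.Def_PLocal

/-!
Owner: helper24. Control of the involution fusion of a strongly closed 2-subgroup by a subgroup containing
the centralisers of its non-identity elements and the normaliser of the subgroup its involutions generate
(part A of S3289).
-/

set_option autoImplicit false

namespace CfsgLib.TwoFusion.Foote

universe u

variable {G : Type u} [Group G] [Finite G]

/-- A 2-subgroup of an overgroup of a Sylow subgroup is conjugate into it inside the overgroup. -/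
theorem exists_conj_le (T : Sylow 2 G) {H K : Subgroup G} (hT : (T : Subgroup G) ≤ H) (hK : K ≤ H)
    (hK2 : IsPGroup 2 K) : ∃ h ∈ H, ∀ x ∈ K, h * x * h⁻¹ ∈ (T : Subgroup G) := by
  have : Fact (Nat.Prime 2) := ⟨Nat.prime_two⟩
  obtain ⟨Q, hQ⟩ := IsPGroup.exists_le_sylow (p := 2) (P := K.subgroupOf H)
    (hK2.comap_of_injective H.subtype H.subtype_injective)
  obtain ⟨h, hh⟩ := MulAction.exists_smul_eq H Q (T.subtype hT)
  refine ⟨h, h.2, fun x hx => ?_⟩
  have h1 : h * ⟨x, hK hx⟩ * h⁻¹ ∈ ((h • Q : Sylow 2 H) : Subgroup H) := by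
    rw [Sylow.coe_subgroup_smul, Subgroup.mem_pointwise_smul_iff_inv_smul_mem]
    simpa [MulAut.conj_apply, mul_assoc] using hQ (Subgroup.mem_subgroupOf.mpr hx)
  rw [hh, Sylow.coe_subtype, Subgroup.mem_subgroupOf] at h1
  simpa using h1

/-- An element normalising a subgroup whose centre has even order centralises one of the involutions of the
centre, if its square does. -/
theorem exists_fixed_involution {J : Subgroup G} (hJ : J ≠ ⊥) (hJ2 : IsPGroup 2 J) {e : G}
    (he : e ^ 2 = 1) (hn : ∀ y ∈ J, e * y * e⁻¹ ∈ J) :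
    ∃ c ∈ J, orderOf c = 2 ∧ Commute e c := by
  have : Fact (Nat.Prime 2) := ⟨Nat.prime_two⟩
  have : Nontrivial J := J.nontrivial_iff_ne_bot.mpr hJ
  have := hJ2.center_nontrivial
  have h2 : IsPGroup 2 (Subgroup.center J) := hJ2.to_subgroup _
  obtain ⟨k, hk, hcard⟩ := h2.nontrivial_iff_card.mp inferInstance
  obtain ⟨c, hc⟩ := exists_prime_orderOf_dvd_card' (G := Subgroup.center J) 2
    (hcard ▸ dvd_pow_self 2 hk.ne')
  have hcz : ∀ y ∈ J, Commute ((c : J) : G) y := fun y hy =>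
    congrArg Subtype.val (Subgroup.mem_center_iff.mp c.2 ⟨y, hy⟩).symm
  have hc2 : orderOf ((c : J) : G) = 2 := by rw [Subgroup.orderOf_coe, Subgroup.orderOf_coe, hc]
  generalize hd : ((c : J) : G) = d at hcz hc2
  have hdJ : d ∈ J := hd ▸ (c : J).2
  have hd2 : d * d = 1 := by rw [← pow_two, ← hc2, pow_orderOf_eq_one]
  have he' : e⁻¹ = e := inv_eq_of_mul_eq_one_right (by rwa [← pow_two])
  set d' := e * d * e⁻¹ with hd'
  have hd'J : d' ∈ J := hn d hdJ
  have hd'2 : d' * d' = 1 := by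
    rw [hd']; calc e * d * e⁻¹ * (e * d * e⁻¹) = e * (d * d) * e⁻¹ := by group
      _ = 1 := by rw [hd2]; group
  have hswap : e * d' * e⁻¹ = d := by
    rw [hd', he']; calc e * (e * d * e) * e = (e * e) * d * (e * e) := by group
      _ = d := by rw [← pow_two, he]; group
  by_cases hp : d * d' = 1
  · refine ⟨d, hdJ, hc2, ?_⟩
    have : d' = d := by rw [← inv_eq_of_mul_eq_one_right hp, inv_eq_of_mul_eq_one_right hd2]
    exact mul_inv_eq_iff_eq_mul.mp this
  · have hcm : Commute d d' := hcz d' hd'J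
    refine ⟨d * d', mul_mem hdJ hd'J, orderOf_eq_prime ?_ hp, ?_⟩
    · rw [hcm.mul_pow, pow_two, pow_two, hd2, hd'2, mul_one]
    · refine mul_inv_eq_iff_eq_mul.mp ?_
      calc e * (d * d') * e⁻¹ = (e * d * e⁻¹) * (e * d' * e⁻¹) := by group
        _ = d' * d := by rw [hswap]
        _ = d * d' := hcm.symm.eq

/-- In a 2-group a subgroup generated by involutions and missing some involution is normalised by an
involution outside it. -/
theorem exists_involution_normalizing {P : Subgroup G} (hP : IsPGroup 2 P) {I : Set G}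
    (hIP : ∀ y ∈ I, y ∈ P) (hI : ∀ y ∈ I, orderOf y = 2) {e₀ : G} (h₀ : e₀ ∈ P)
    (h₀2 : orderOf e₀ = 2) (h₀n : e₀ ∉ Subgroup.closure I) :
    ∃ e ∈ P, orderOf e = 2 ∧ e ∉ Subgroup.closure I ∧
      ∀ y ∈ Subgroup.closure I, e * y * e⁻¹ ∈ Subgroup.closure I := by
  have : Fact (Nat.Prime 2) := ⟨Nat.prime_two⟩
  set J := Subgroup.closure I
  have hJP : J ≤ P := (Subgroup.closure_le P).mpr hIP
  set M := (Subgroup.normalizer (J : Set G)).subgroupOf P
  by_cases hM : M = ⊤
  · refine ⟨e₀, h₀, h₀2, h₀n, fun y hy => ?_⟩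
    have : (⟨e₀, h₀⟩ : P) ∈ M := hM ▸ Subgroup.mem_top _
    exact (Subgroup.mem_normalizer_iff.mp (Subgroup.mem_subgroupOf.mp this) y).mp hy
  have : Group.IsNilpotent P := hP.isNilpotent
  obtain ⟨n, hnN, hnM⟩ := SetLike.exists_of_lt (Group.normalizerCondition_of_isNilpotent M (lt_top_iff_ne_top.mpr hM))
  obtain ⟨d, hdI, hd⟩ : ∃ d ∈ I, (n : G) * d * (n : G)⁻¹ ∉ J := by
    by_contra hcon
    push Not at hcon
    refine hnM (Subgroup.mem_subgroupOf.mpr (Subgroup.mem_normalizer_fintype fun y hy => ?_))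
    have hle : J ≤ J.comap (MulAut.conj (n : G)).toMonoidHom := by
      rw [Subgroup.closure_le]
      intro y hy
      simpa using hcon y hy
    exact hle hy
  have hdP : d ∈ P := hIP d hdI
  have hdM : (⟨d, hdP⟩ : P) ∈ M :=
    Subgroup.mem_subgroupOf.mpr (Subgroup.le_normalizer (Subgroup.subset_closure hdI))
  have := Subgroup.mem_subgroupOf.mp ((Subgroup.mem_normalizer_iff.mp hnN _).mp hdM)
  refine ⟨(n : G) * d * (n : G)⁻¹, mul_mem (mul_mem n.2 hdP) (inv_mem n.2), ?_, hd,
    fun y hy => (Subgroup.mem_normalizer_iff.mp this y).mp hy⟩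
  exact ((MulAut.conj (n : G)).orderOf_eq d).trans (hI d hdI)

/-- The subgroup generated by the involutions of a strongly closed subgroup is normalised by the Sylow
subgroup, so that subgroup lies in any overgroup of the normaliser. -/
theorem sylow_le (T : Sylow 2 G) {S H : Subgroup G} (hsc : Cfsg.IsStronglyClosed S (T : Subgroup G))
    (hN : Subgroup.normalizer ((Cfsg.omegaOne 2 S : Subgroup G) : Set G) ≤ H) : (T : Subgroup G) ≤ H := by
  intro t ht
  refine hN (Subgroup.mem_normalizer_fintype fun y hy => ?_)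
  have hle : Cfsg.omegaOne 2 S ≤ (Cfsg.omegaOne 2 S).comap (MulAut.conj t).toMonoidHom := by
    rw [Cfsg.omegaOne, Subgroup.closure_le]
    rintro x ⟨hx, hx2⟩
    refine Subgroup.subset_closure ⟨?_, ?_⟩
    · simpa using hsc.2 x hx t (mul_mem (mul_mem ht (hsc.1 hx)) (inv_mem ht))
    · simp [conj_pow, hx2]
  exact hle hy

/-- An element moving an involution of `S` into `H` lies in `H`. -/
theorem fusion_mem (T : Sylow 2 G) {S H : Subgroup G} (hsc : Cfsg.IsStronglyClosed S (T : Subgroup G))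
    (hC : ∀ s ∈ S, s ≠ 1 → Subgroup.centralizer ({s} : Set G) ≤ H)
    (hN : Subgroup.normalizer ((Cfsg.omegaOne 2 S : Subgroup G) : Set G) ≤ H) :
    ∀ x ∈ S, orderOf x = 2 → ∀ g : G, g * x * g⁻¹ ∈ H → g ∈ H := by
  classical
  have : Fact (Nat.Prime 2) := ⟨Nat.prime_two⟩
  have hTH := sylow_le T hsc hN
  let A : G → Set G := fun g => {y | y ∈ S ∧ orderOf y = 2 ∧ g⁻¹ * y * g ∈ S}
  have key : ∀ g, (A g).Nonempty → g ∈ H := by
    by_contra hcon
    push Not at hcon
    obtain ⟨g, ⟨hne, hg⟩, hmax⟩ := (Set.toFinite {g : G | (A g).Nonempty ∧ g ∉ H}).exists_maximalFor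
      (fun g => (A g).ncard) _ hcon
    obtain ⟨y₁, hy₁⟩ : ∃ y ∈ S, orderOf y = 2 ∧ y ∉ A g := by
      by_contra hall
      push Not at hall
      refine hg (inv_mem_iff.mp (hN (Subgroup.mem_normalizer_fintype fun y hy => ?_)))
      have hle : Cfsg.omegaOne 2 S ≤ (Cfsg.omegaOne 2 S).comap (MulAut.conj g⁻¹).toMonoidHom := by
        rw [Cfsg.omegaOne, Subgroup.closure_le]
        rintro x ⟨hx, hx2⟩
        refine Subgroup.subset_closure ⟨?_, ?_⟩
        · by_cases h1 : x = 1
          · simp [h1]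
          · simpa using (hall x hx (orderOf_eq_prime hx2 h1)).2.2
        · rw [show (MulAut.conj g⁻¹).toMonoidHom x ^ 2 = (MulAut.conj g⁻¹).toMonoidHom (x ^ 2) from
            (map_pow _ _ _).symm, hx2, map_one]
      exact hle hy
    obtain ⟨e₁, he₁S, he₁2, he₁A⟩ : ∃ y ∈ S, orderOf y = 2 ∧ g * y * g⁻¹ ∉ A g := by
      by_contra hall
      push Not at hall
      have hlt : (A g).ncard < {y | y ∈ S ∧ orderOf y = 2}.ncard :=
        Set.ncard_lt_ncard ⟨fun y hy => ⟨hy.1, hy.2.1⟩, fun h => hy₁.2.2 (h ⟨hy₁.1, hy₁.2.1⟩)⟩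
      have hle : {y | y ∈ S ∧ orderOf y = 2}.ncard ≤ (A g).ncard :=
        Set.ncard_le_ncard_of_injOn (fun y => g * y * g⁻¹) (fun y hy => hall y hy.1 hy.2)
          (fun a _ b _ hab => by simpa using hab)
      omega
    have hP : IsPGroup 2 (S.map (MulAut.conj g).toMonoidHom) :=
      (T.2.to_le hsc.1).map _
    have hAP : ∀ y ∈ A g, y ∈ S.map (MulAut.conj g).toMonoidHom := fun y hy =>
      ⟨g⁻¹ * y * g, hy.2.2, by simp [mul_assoc]⟩
    have hJS : Subgroup.closure (A g) ≤ S := (Subgroup.closure_le S).mpr fun y hy => hy.1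
    obtain ⟨e, heP, he2, heJ, hen⟩ := exists_involution_normalizing hP hAP (fun y hy => hy.2.1)
      (e₀ := g * e₁ * g⁻¹) ⟨e₁, he₁S, rfl⟩ (((MulAut.conj g).orderOf_eq e₁).trans he₁2)
      (fun hmem => he₁A ⟨hJS hmem, ((MulAut.conj g).orderOf_eq e₁).trans he₁2,
        by simpa [mul_assoc] using he₁S⟩)
    have hJ0 : Subgroup.closure (A g) ≠ ⊥ := by
      obtain ⟨y, hy⟩ := hne
      intro h0
      have hy2 := hy.2.1
      have h1 : y ∈ Subgroup.closure (A g) := Subgroup.subset_closure hy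
      rw [h0, Subgroup.mem_bot] at h1
      rw [h1, orderOf_one] at hy2
      omega
    obtain ⟨c, hc, hc2, hec⟩ := exists_fixed_involution hJ0 (T.2.to_le (hJS.trans hsc.1))
      (e := e) (by rw [← he2, pow_orderOf_eq_one]) hen
    have heH : e ∈ H := hC c (hJS hc) (fun h => by rw [h, orderOf_one] at hc2; omega)
      (Subgroup.mem_centralizer_singleton_iff.mpr hec)
    have hKH : Subgroup.closure (insert e (A g)) ≤ H := by
      rw [Subgroup.closure_le]
      rintro y (rfl | hy)
      exacts [heH, hTH (hsc.1 hy.1)]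
    have hKP : Subgroup.closure (insert e (A g)) ≤ S.map (MulAut.conj g).toMonoidHom := by
      rw [Subgroup.closure_le]
      rintro y (rfl | hy)
      exacts [heP, hAP y hy]
    obtain ⟨h, hh, hconj⟩ := exists_conj_le T hTH hKH (hP.to_le hKP)
    have himg : ∀ y ∈ insert e (A g), h * y * h⁻¹ ∈ A (h * g) := by
      intro y hy
      obtain ⟨s, hs, hsy⟩ := hKP (Subgroup.subset_closure hy)
      have hsy' : g * s * g⁻¹ = y := by simpa using hsy
      have hmem := hconj y (Subgroup.subset_closure hy)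
      have hy2 : orderOf y = 2 := by
        rcases hy with rfl | hy
        exacts [he2, hy.2.1]
      refine ⟨?_, ((MulAut.conj h).orderOf_eq y).trans hy2, ?_⟩
      · have := hsc.2 s hs (h * g) (by rwa [show h * g * s * (h * g)⁻¹ = h * (g * s * g⁻¹) * h⁻¹ by group,
          hsy'])
        rwa [show h * g * s * (h * g)⁻¹ = h * (g * s * g⁻¹) * h⁻¹ by group, hsy'] at this
      · rw [← hsy', show (h * g)⁻¹ * (h * (g * s * g⁻¹) * h⁻¹) * (h * g) = s by group]
        exact hs
    have hcard : (A g).ncard < (A (h * g)).ncard := by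
      have h1 : (insert e (A g)).ncard = (A g).ncard + 1 :=
        Set.ncard_insert_of_notMem (fun he => heJ (Subgroup.subset_closure he))
      have h2 : (insert e (A g)).ncard ≤ (A (h * g)).ncard :=
        Set.ncard_le_ncard_of_injOn (fun y => h * y * h⁻¹) himg (fun a _ b _ hab => by simpa using hab)
      omega
    have hmem : h * g ∈ {g : G | (A g).Nonempty ∧ g ∉ H} :=
      ⟨⟨_, himg e (Set.mem_insert _ _)⟩, fun h' => hg ((Subgroup.mul_mem_cancel_left _ hh).mp h')⟩
    exact absurd (hmax hmem hcard.le) (not_le.mpr hcard)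
  intro x hx hx2 g hg
  obtain ⟨h, hh, hmem⟩ := exists_conj_le T hTH (Subgroup.zpowers_le.mpr hg)
    (IsPGroup.of_card (n := 1) (by
      rw [Nat.card_zpowers, ← hx2, pow_one]; exact (MulAut.conj g).orderOf_eq x))
  have h1 := hmem _ (Subgroup.mem_zpowers _)
  have e1 : h * g * x * (h * g)⁻¹ = h * (g * x * g⁻¹) * h⁻¹ := by group
  have h2 : h * g * x * (h * g)⁻¹ ∈ S := hsc.2 x hx (h * g) (e1 ▸ h1)
  refine (Subgroup.mul_mem_cancel_left _ hh).mp (key (h * g) ⟨_, h2, ?_, ?_⟩)
  · exact ((MulAut.conj (h * g)).orderOf_eq x).trans hx2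
  · rw [show (h * g)⁻¹ * (h * g * x * (h * g)⁻¹) * (h * g) = x by group]
    exact hx

end CfsgLib.TwoFusion.Foote
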