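import Cfsg.Agent.Lib.TwoFusion.Foote.RankOne.Main
import Cfsg.Agent.Lib.TwoFusion.Foote.Control
import Cfsg.Agent.Lib.TwoFusion.StructGold.Basic
import Cfsg.Prelude.Def_Involutions

/-!
Owner: helper24. S3289 when `S` has one involution: `S` is a Sylow subgroup of its normal closure `X` and
`H ∩ X` is strongly embedded in `X`. No classification input is needed.
-/

set_option autoImplicit false
set_option linter.style.haveILetI false

namespace CfsgLib.TwoFusion.Foote

open Subgroup Cfsg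

universe u

variable {G : Type u} [Group G] [Finite G]

/-- The normal closure of a strongly closed subgroup is the normal closure inside itself. -/
theorem normalClosure_subgroupOf_closure {T : Sylow 2 G} {S : Subgroup G}
    (hsc : IsStronglyClosed S (T : Subgroup G)) :
    normalClosure ((S.subgroupOf (normalClosure (S : Set G)) : Subgroup ↥(normalClosure (S : Set G))) :
      Set ↥(normalClosure (S : Set G))) = ⊤ := by
  haveI : Fact (Nat.Prime 2) := ⟨Nat.prime_two⟩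
  set X := normalClosure (S : Set G) with hX
  have hSX : S ≤ X := fun x hx => subset_normalClosure hx
  obtain ⟨Q, hQ⟩ := CfsgLib.TwoFusion.StructGold.exists_sylow_subgroupOf T X
  have hQm : (Q : Subgroup X).map X.subtype = (T : Subgroup G) ⊓ X := by rw [hQ, subgroupOf_map_subtype]
  set N := normalClosure ((S.subgroupOf X : Subgroup X) : Set X) with hN
  haveI hNn : N.Normal := normalClosure_normal
  have hsub : ∀ s (hs : s ∈ S), (⟨s, hSX hs⟩ : X) ∈ N := fun s hs => subset_normalClosure hs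
  have hKn : ∀ g : G, ∀ v ∈ S, g * v * g⁻¹ ∈ N.map X.subtype := by
    intro g v hv
    have hg : g ∈ ((normalizer ((Q : Subgroup X).map X.subtype : Set G) ⊔ X : Subgroup G) : Set G) := by
      rw [Sylow.normalizer_sup_eq_top Q]
      trivial
    rw [hQm, sup_comm, normal_mul] at hg
    obtain ⟨x, hx, n, hn, rfl⟩ := hg
    have h1 : n * v * n⁻¹ ∈ S := hsc.2 v hv n ((mem_normalizer_iff.1 hn v).1 ⟨hsc.1 hv, hSX hv⟩).1
    refine ⟨⟨x, hx⟩ * ⟨n * v * n⁻¹, hSX h1⟩ * ⟨x, hx⟩⁻¹, hNn.conj_mem _ (hsub _ h1) _, ?_⟩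
    show x * (n * v * n⁻¹) * x⁻¹ = x * n * v * (x * n)⁻¹
    group
  have hle : X ≤ N.map X.subtype := (closure_le _).2 fun v hv => by
    obtain ⟨a, ha, hav⟩ := Group.mem_conjugatesOfSet_iff.1 hv
    obtain ⟨g, rfl⟩ := isConj_iff.1 hav
    exact hKn g a ha
  refine eq_top_iff.2 fun x _ => ?_
  obtain ⟨y, hy, hyx⟩ := hle x.2
  rwa [← (Subtype.ext hyx : y = x)]

/-- The Sylow statement with trivial odd core. -/
theorem inf_closure_le {T : Sylow 2 G} {S : Subgroup G} (hsc : IsStronglyClosed S (T : Subgroup G))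
    (huniq : ∀ x ∈ S, ∀ y ∈ S, orderOf x = 2 → orderOf y = 2 → x = y) (hO : oddCore G = ⊥) :
    (T : Subgroup G) ⊓ normalClosure (S : Set G) ≤ S := by
  haveI : Fact (Nat.Prime 2) := ⟨Nat.prime_two⟩
  set X := normalClosure (S : Set G)
  have hSX : S ≤ X := fun x hx => subset_normalClosure hx
  obtain ⟨Q, hQ⟩ := CfsgLib.TwoFusion.StructGold.exists_sylow_subgroupOf T X
  have hSc : IsStronglyClosed (S.subgroupOf X) (Q : Subgroup X) := by
    rw [hQ]
    exact ⟨fun x hx => hsc.1 hx, fun x hx g hg => hsc.2 x hx g hg⟩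
  have hu : ∀ x ∈ S.subgroupOf X, ∀ y ∈ S.subgroupOf X, orderOf x = 2 → orderOf y = 2 → x = y :=
    fun x hx y hy hx2 hy2 => Subtype.ext (huniq x hx y hy (by rwa [Subgroup.orderOf_coe])
      (by rwa [Subgroup.orderOf_coe]))
  have hOX : oddCore X = ⊥ := (map_eq_bot_iff_of_injective _ X.subtype_injective).1
    (le_bot_iff.1 ((CfsgLib.Core.map_subtype_pPrimeCore_le (p := 2) X).trans hO.le))
  have h := eq_sylow_of_unique Q hSc hu hOX (normalClosure_subgroupOf_closure hsc)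
  intro x hx
  have h1 : (⟨x, hx.2⟩ : X) ∈ (Q : Subgroup X) := by rw [hQ]; exact hx.1
  rw [← h] at h1
  exact h1

/-- `S` is a Sylow subgroup of its normal closure. -/
theorem eq_inf_closure (T : Sylow 2 G) {S : Subgroup G} (hsc : IsStronglyClosed S (T : Subgroup G))
    (huniq : ∀ x ∈ S, ∀ y ∈ S, orderOf x = 2 → orderOf y = 2 → x = y) :
    S = (T : Subgroup G) ⊓ normalClosure (S : Set G) := by
  haveI : Fact (Nat.Prime 2) := ⟨Nat.prime_two⟩
  refine le_antisymm (le_inf hsc.1 fun x hx => subset_normalClosure hx) fun x hx => ?_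
  set O := oddCore G
  set π := QuotientGroup.mk' O
  have hπ : Function.Surjective π := QuotientGroup.mk'_surjective O
  have hinj : ∀ v ∈ (T : Subgroup G), π v = 1 → v = 1 := fun v hv h1 =>
    eq_one_of_odd hv (Odd.of_dvd_nat (CfsgLib.ZStar.odd_card_oddCore G)
      (Subgroup.orderOf_dvd_natCard _ ((QuotientGroup.eq_one_iff v).1 h1)))
  have hu : ∀ a ∈ S.map π, ∀ b ∈ S.map π, orderOf a = 2 → orderOf b = 2 → a = b := by
    have horder : ∀ v ∈ S, orderOf (π v) = 2 → orderOf v = 2 := by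
      intro v hv h2
      refine orderOf_eq_prime ?_ fun h => ?_
      · exact hinj _ (pow_mem (hsc.1 hv) 2) (by rw [map_pow]; exact orderOf_dvd_iff_pow_eq_one.1 (dvd_of_eq h2))
      · rw [h, map_one, orderOf_one] at h2; omega
    rintro _ ⟨a, ha, rfl⟩ _ ⟨b, hb, rfl⟩ ha2 hb2
    rw [huniq a ha b hb (horder a ha ha2) (horder b hb hb2)]
  have h := inf_closure_le (closed_map hsc O) hu (CfsgLib.Core.pPrimeCore_quotient_pPrimeCore 2 G)
  have hπx : π x ∈ S.map π := by
    refine h ⟨?_, ?_⟩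
    · rw [Sylow.coe_mapSurjective]; exact mem_map_of_mem π hx.1
    · rw [coe_map, ← map_normalClosure _ π hπ]
      exact mem_map_of_mem π hx.2
  obtain ⟨s, hs, hsx⟩ := hπx
  have h2 : s⁻¹ * x = 1 := hinj _ (mul_mem (inv_mem (hsc.1 hs)) hx.1) (by
    rw [map_mul, map_inv, hsx, inv_mul_cancel])
  rwa [← inv_mul_eq_one.1 h2]

/-- Part C of S3289. -/
theorem conclusion_of_one (T : Sylow 2 G) (S : Subgroup G) (hS : S ≠ ⊥)
    (hsc : IsStronglyClosed S (T : Subgroup G)) (H : Subgroup G) (hH : H ≠ ⊤) (hTH : (T : Subgroup G) ≤ H)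
    (hfus : ∀ x ∈ S, orderOf x = 2 → ∀ g : G, g * x * g⁻¹ ∈ H → g ∈ H)
    (huniq : ∀ x ∈ S, ∀ y ∈ S, orderOf x = 2 → orderOf y = 2 → x = y) :
    IsStronglyEmbedded ((H ⊓ normalClosure (S : Set G)).subgroupOf (normalClosure (S : Set G))) ∧
      S = (T : Subgroup G) ⊓ normalClosure (S : Set G) := by
  haveI : Fact (Nat.Prime 2) := ⟨Nat.prime_two⟩
  have hST := eq_inf_closure T hsc huniq
  refine ⟨?_, hST⟩
  set X := normalClosure (S : Set G) with hX
  obtain ⟨z, hzS, hz⟩ : ∃ z ∈ S, orderOf z = 2 := by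
    haveI : Nontrivial S := S.nontrivial_iff_ne_bot.2 hS
    obtain ⟨k, hk, hcard⟩ := (T.2.to_le hsc.1).nontrivial_iff_card.1 inferInstance
    obtain ⟨t, ht⟩ := exists_prime_orderOf_dvd_card' (G := S) 2 (hcard ▸ dvd_pow_self 2 hk.ne')
    exact ⟨t, t.2, by rw [Subgroup.orderOf_coe, ht]⟩
  have hzX : z ∈ X := subset_normalClosure hzS
  obtain ⟨Q, hQ⟩ := CfsgLib.TwoFusion.StructGold.exists_sylow_subgroupOf T X
  -- the involutions of `X` are the conjugates of `z`
  have hconj : ∀ y : X, orderOf y = 2 → ∃ k : G, k ∈ X ∧ k * z * k⁻¹ = (y : G) := by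
    intro y hy
    obtain ⟨n, -, hn⟩ := exists_conj_le Q le_top (K := zpowers y) le_top
      (IsPGroup.of_card (n := 1) (by rw [Nat.card_zpowers, hy, pow_one]))
    have h1 := hn y (mem_zpowers y)
    rw [hQ, mem_subgroupOf] at h1
    have h2 : ((n * y * n⁻¹ : X) : G) ∈ S := hST ▸ ⟨h1, SetLike.coe_mem _⟩
    have h3 := huniq z hzS _ h2 hz (by
      rw [Subgroup.orderOf_coe]; exact ((MulAut.conj n).orderOf_eq y).trans hy)
    refine ⟨(n : G)⁻¹, inv_mem n.2, ?_⟩
    rw [h3, Subgroup.coe_mul, Subgroup.coe_mul, InvMemClass.coe_inv]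
    group
  refine ⟨fun htop => ?_, ?_, fun g hg => ?_⟩
  · rw [subgroupOf_eq_top] at htop
    refine hH (eq_top_iff.2 fun g _ => hfus z hzS hz g ?_)
    exact (htop (normalClosure_normal.conj_mem z hzX g)).1
  · rw [even_iff_two_dvd]
    have hzmem : (⟨z, hzX⟩ : X) ∈ (H ⊓ X).subgroupOf X := ⟨hTH (hsc.1 hzS), hzX⟩
    have h1 := Subgroup.orderOf_dvd_natCard _ hzmem
    rwa [Subgroup.orderOf_mk, hz] at h1
  · refine Nat.not_even_iff_odd.1 fun heven => hg ?_
    obtain ⟨y, hy⟩ := exists_prime_orderOf_dvd_card'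
      (G := ↥((H ⊓ X).subgroupOf X ⊓ ((H ⊓ X).subgroupOf X).map (MulAut.conj g).toMonoidHom)) 2
      (even_iff_two_dvd.1 heven)
    rw [← Subgroup.orderOf_coe] at hy
    obtain ⟨hyH, w, hw, hwy⟩ := y.2
    obtain ⟨k, -, hk⟩ := hconj y hy
    have hkH : k ∈ H := hfus z hzS hz k (by rw [hk]; exact hyH.1)
    have hwy' : (g : G) * (w : G) * (g : G)⁻¹ = ((y : X) : G) := congrArg Subtype.val hwy
    have hgk : ((g : G)⁻¹ * k) * z * ((g : G)⁻¹ * k)⁻¹ ∈ H := by
      rw [show (g : G)⁻¹ * k * z * ((g : G)⁻¹ * k)⁻¹ = (g : G)⁻¹ * (k * z * k⁻¹) * g by group, hk, ← hwy',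
        show (g : G)⁻¹ * ((g : G) * (w : G) * (g : G)⁻¹) * g = (w : G) by group]
      exact hw.1
    have h1 := hfus z hzS hz _ hgk
    exact ⟨(inv_mem_iff.1 ((Subgroup.mul_mem_cancel_right _ hkH).1 h1) : (g : G) ∈ H), g.2⟩

end CfsgLib.TwoFusion.Foote
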