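import Cfsg.Agent.Lib.TwoFusion.StructGold.Pair
import Cfsg.Agent.Lib.LocalEven.Generation

/-!
Owner: helper7. S3289, several involutions in `S`: the standing data and its elementary consequences.

* `commutator_mem_of_inf_eq_bot`: `S` centralises, modulo the odd core, a normal subgroup meeting it trivially.
* `Two`: a proper subgroup `H` containing the centralisers of `S#` and, with a conjugate of an involution of
  `S`, the conjugating element; it passes to quotients by normal subgroups inside `H`.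
-/

set_option autoImplicit false
set_option linter.unusedSectionVars false
set_option linter.style.haveILetI false

namespace CfsgLib.TwoFusion.Foote

open Subgroup Cfsg
open CfsgLib.TwoFusion.StructGold (exists_sylow_subgroupOf exists_sylow_between)

universe u

variable {G : Type u} [Group G] [Finite G] {T : Sylow 2 G} {S H : Subgroup G}

/-- `S` centralises modulo the odd core a normal subgroup meeting it trivially. -/
theorem commutator_mem_of_inf_eq_bot (hsc : IsStronglyClosed S (T : Subgroup G)) {N : Subgroup G} [N.Normal]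
    (hN : S ⊓ N = ⊥) {s : G} (hs : s ∈ S) {n : G} (hn : n ∈ N) : s * n * s⁻¹ * n⁻¹ ∈ pPrimeCore 2 G := by
  haveI := Fact.mk Nat.prime_two
  set X := N ⊔ zpowers s with hX
  have hsX : s ∈ X := mem_sup_right (mem_zpowers s)
  obtain ⟨Q, hQ⟩ := exists_sylow_between (S := T) (le_sup_left : N ≤ X) fun g hg => by
    have hg' : g ∈ (X : Set G) := hg
    rw [hX, normal_mul] at hg'
    obtain ⟨l, hl, _, ⟨i, rfl⟩, rfl⟩ := hg'
    exact ⟨l, hl, s ^ i, zpow_mem (hsc.1 hs) i, rfl⟩
  have hfix : CfsgLib.ZStar.Fixed (Q : Subgroup X) ⟨s, hsX⟩ := by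
    refine ⟨by rw [hQ]; exact hsc.1 hs, fun g k hk => Subtype.ext ?_⟩
    rw [hQ] at hk
    show (g : G) * s ^ k * (g : G)⁻¹ = s ^ k
    have h1 : (g : G) * s ^ k * (g : G)⁻¹ ∈ S := hsc.2 _ (pow_mem hs k) _ hk
    have hg' : (g : G) ∈ (X : Set G) := g.2
    rw [hX, normal_mul] at hg'
    obtain ⟨l, hl, _, ⟨i, rfl⟩, hlg⟩ := hg'
    have hlg' : l * s ^ i = (g : G) := hlg
    have h2 : (g : G) * s ^ k * (g : G)⁻¹ * (s ^ k)⁻¹ ∈ S ⊓ N := by
      refine ⟨S.mul_mem h1 (S.inv_mem (pow_mem hs k)), ?_⟩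
      rw [← hlg', show l * s ^ i * s ^ k * (l * s ^ i)⁻¹ * (s ^ k)⁻¹ = l * (s ^ k * l⁻¹ * (s ^ k)⁻¹) by
        rw [← zpow_natCast]; group]
      exact mul_mem hl ((inferInstance : N.Normal).conj_mem _ (inv_mem hl) _)
    rw [hN, mem_bot] at h2
    exact mul_inv_eq_one.1 h2
  have h3 := CfsgLib.ZStar.commutator_mem_oddCore_of_fixed Q hfix ⟨n, mem_sup_left hn⟩
  set c : X := ⟨s, hsX⟩ * ⟨n, mem_sup_left hn⟩ * (⟨s, hsX⟩ : X)⁻¹ * (⟨n, mem_sup_left hn⟩ : X)⁻¹ with hc
  have hcN : (c : G) ∈ N := mul_mem ((inferInstance : N.Normal).conj_mem n hn s) (inv_mem hn)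
  let ι : N →* X := Subgroup.inclusion le_sup_left
  have h4 : (⟨_, hcN⟩ : N) ∈ pPrimeCore 2 N :=
    CfsgLib.Core.le_pPrimeCore ((CfsgLib.Core.coprime_card_pPrimeCore 2 X).coprime_dvd_left
      (card_comap_dvd_of_injective _ ι (Subgroup.inclusion_injective _)))
      (show (⟨_, hcN⟩ : N) ∈ (pPrimeCore 2 X).comap ι from h3)
  exact CfsgLib.Core.map_subtype_pPrimeCore_le (p := 2) N (mem_map_of_mem N.subtype h4)

/-- The standing data. -/
structure Two (T : Sylow 2 G) (S H : Subgroup G) : Prop where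
  closed : IsStronglyClosed S (T : Subgroup G)
  ne_top : H ≠ ⊤
  cent : ∀ s ∈ S, s ≠ 1 → centralizer ({s} : Set G) ≤ H
  fus : ∀ x ∈ S, orderOf x = 2 → ∀ g : G, g * x * g⁻¹ ∈ H → g ∈ H
  two : ∃ x ∈ S, ∃ y ∈ S, orderOf x = 2 ∧ orderOf y = 2 ∧ x ≠ y

/-- A nontrivial element of `S` has an involution among its powers. -/
theorem exists_pow_involution (hST : S ≤ (T : Subgroup G)) {s : G} (hs : s ∈ S) (hs1 : s ≠ 1) :
    ∃ k : ℕ, orderOf (s ^ k) = 2 := by
  haveI := Fact.mk Nat.prime_two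
  obtain ⟨j, hj⟩ := IsPGroup.iff_orderOf.1 T.2 ⟨s, hST hs⟩
  rw [Subgroup.orderOf_mk] at hj
  obtain ⟨j, rfl⟩ : ∃ i, j = i + 1 := ⟨j - 1, by
    rcases j with - | j
    · rw [pow_zero, orderOf_eq_one_iff] at hj
      exact absurd hj hs1
    · omega⟩
  refine ⟨2 ^ j, orderOf_eq_prime (by rw [← pow_mul, ← pow_succ, ← hj, pow_orderOf_eq_one]) fun h => ?_⟩
  have h1 : orderOf s ∣ 2 ^ j := orderOf_dvd_of_pow_eq_one h
  rw [hj] at h1
  have := (Nat.pow_dvd_pow_iff_le_right (by norm_num : 1 < 2)).1 h1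
  omega

namespace Two

variable (h : Two T S H)

include h

theorem le : S ≤ (T : Subgroup G) := h.closed.1

theorem normalize {t x : G} (ht : t ∈ (T : Subgroup G)) (hx : x ∈ S) : t * x * t⁻¹ ∈ S :=
  h.closed.2 x hx t (mul_mem (mul_mem ht (h.le hx)) (inv_mem ht))

theorem ne_bot : S ≠ ⊥ := by
  obtain ⟨x, hx, y, hy, hx2, -, -⟩ := h.two
  intro e
  rw [e, mem_bot] at hx
  rw [hx, orderOf_one] at hx2
  omega

/-- An involution of `N ∩ S` central in `T`, for `N` normal meeting `S`. -/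
theorem exists_central {N : Subgroup G} [N.Normal] (hN : S ⊓ N ≠ ⊥) :
    ∃ z ∈ S ⊓ N, orderOf z = 2 ∧ ∀ t ∈ (T : Subgroup G), Commute t z := by
  haveI := Fact.mk Nat.prime_two
  set R := (S ⊓ N).subgroupOf (T : Subgroup G) with hR
  haveI hRn : R.Normal := ⟨fun x hx t => ⟨h.normalize t.2 hx.1, (inferInstance : N.Normal).conj_mem _ hx.2 _⟩⟩
  have hR1 : R ≠ ⊥ := fun e => hN (by
    rw [hR, subgroupOf_eq_bot] at e
    exact disjoint_self.1 (e.mono_right (inf_le_left.trans h.le)))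
  haveI : Nontrivial R := R.nontrivial_iff_ne_bot.2 hR1
  have hne : R ⊓ center (T : Subgroup G) ≠ ⊥ := CfsgLib.PGroups.inf_center_ne_bot T.2 hR1
  obtain ⟨z, ⟨hzR, hzc⟩, hz1⟩ := (bot_or_exists_ne_one _).resolve_left hne
  have hz1' : (z : G) ≠ 1 := fun e => hz1 (Subtype.ext e)
  obtain ⟨k, hk⟩ := exists_pow_involution h.le hzR.1 hz1'
  refine ⟨(z : G) ^ k, pow_mem hzR k, hk, fun t ht => ?_⟩
  have := mem_center_iff.1 hzc ⟨t, ht⟩
  exact Commute.pow_right (congrArg Subtype.val this) k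

theorem sylow_le : (T : Subgroup G) ≤ H := by
  obtain ⟨z, hz, hz2, hzc⟩ := h.exists_central (N := ⊤) (by rw [inf_top_eq]; exact h.ne_bot)
  exact fun t ht => h.cent z hz.1 (fun e => by rw [e, orderOf_one] at hz2; omega)
    (mem_centralizer_singleton_iff.2 (hzc t ht).eq)

/-- A 2-subgroup of `H` is conjugate in `H` into `T`. -/
theorem exists_conj_into {R : Subgroup G} (hR : IsPGroup 2 R) (hRH : R ≤ H) :
    ∃ k ∈ H, ∀ r ∈ R, k * r * k⁻¹ ∈ (T : Subgroup G) := by
  haveI := Fact.mk Nat.prime_two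
  obtain ⟨k, hk, hkR⟩ := CfsgLib.Transfer.exists_conj_le T.2
    (fun hd => T.not_dvd_index (hd.trans (relIndex_dvd_index_of_le h.sylow_le))) hRH hR
  exact ⟨k⁻¹, H.inv_mem hk, fun r hr => by simpa using hkR r hr⟩

/-- A conjugate of an involution of `S` lying in `H` and in a conjugate of `H`. -/
theorem mem_of_pair {x : G} (hx : x ∈ S) (hx2 : orderOf x = 2) {a g : G} (h1 : a * x * a⁻¹ ∈ H)
    (h2 : g⁻¹ * (a * x * a⁻¹) * g ∈ H) : g ∈ H := by
  have ha := h.fus x hx hx2 a h1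
  have hga := h.fus x hx hx2 (g⁻¹ * a) (by
    rw [show g⁻¹ * a * x * (g⁻¹ * a)⁻¹ = g⁻¹ * (a * x * a⁻¹) * g by group]
    exact h2)
  simpa using mul_mem ha (inv_mem hga)

theorem oddCore_le : pPrimeCore 2 G ≤ H := by
  haveI := Fact.mk Nat.prime_two
  obtain ⟨z, hz, hz2, hzc⟩ := h.exists_central (N := ⊤) (by rw [inf_top_eq]; exact h.ne_bot)
  obtain ⟨x, hx, hx2, hxz⟩ : ∃ x ∈ S, orderOf x = 2 ∧ x ≠ z := by
    obtain ⟨x, hx, y, hy, hx2, hy2, hxy⟩ := h.two
    by_cases e : x = z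
    · exact ⟨y, hy, hy2, fun e' => hxy (e.trans e'.symm)⟩
    · exact ⟨x, hx, hx2, e⟩
  have hc : Commute x z := hzc x (h.le hx)
  set A := closure ({x, z} : Set G) with hA
  have hAS : A ≤ S := (closure_le _).2 (Set.insert_subset hx (Set.singleton_subset_iff.2 hz.1))
  have hxx : x * x = 1 := by rw [← pow_two, ← hx2, pow_orderOf_eq_one]
  have hzz : z * z = 1 := by rw [← pow_two, ← hz2, pow_orderOf_eq_one]
  haveI hcomm : IsMulCommutative A := Subgroup.isMulCommutative_closure (by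
    rintro a (rfl | rfl) b (rfl | rfl)
    exacts [rfl, hc.eq, hc.eq.symm, rfl])
  have hexp : ∀ a ∈ A, a ^ 2 = 1 := by
    intro a ha
    induction ha using closure_induction with
    | mem a ha =>
      rcases ha with rfl | rfl
      · rw [pow_two, hxx]
      · rw [pow_two, hzz]
    | one => exact one_pow 2
    | mul a b ha hb ha' hb' =>
      have : Commute a b := congrArg Subtype.val (hcomm.is_comm.comm ⟨a, ha⟩ ⟨b, hb⟩)
      rw [this.mul_pow, ha', hb', one_mul]
    | inv a _ ha' => rw [inv_pow, ha', inv_one]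
  refine CfsgLib.LocalEven.le_of_centralizers_le hexp ?_ (CfsgLib.Core.le_normalizer_of_normal _ _)
    (fun hd => by
      have := Nat.eq_one_of_dvd_coprimes (CfsgLib.Core.coprime_card_pPrimeCore 2 G) hd dvd_rfl
      omega) fun a ha ha1 => inf_le_right.trans (h.cent a (hAS ha) ha1)
  haveI : Fintype A := Fintype.ofFinite A
  have h3' : 3 ≤ Nat.card A := by
    rw [Nat.card_eq_fintype_card]
    exact Fintype.two_lt_card_iff.2 ⟨⟨1, one_mem _⟩, ⟨x, subset_closure (Set.mem_insert _ _)⟩,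
      ⟨z, subset_closure (Set.mem_insert_of_mem _ rfl)⟩,
      fun e => by have := congrArg Subtype.val e; simp only at this; rw [← this, orderOf_one] at hx2; omega,
      fun e => by have := congrArg Subtype.val e; simp only at this; rw [← this, orderOf_one] at hz2; omega,
      fun e => hxz (congrArg Subtype.val e :)⟩
  obtain ⟨k, hk⟩ := (T.2.to_le (hAS.trans h.le)).exists_card_eq
  rw [hk] at h3' ⊢
  refine Nat.pow_le_pow_right (by norm_num) ?_
  by_contra hlt
  have : (2 : ℕ) ^ k ≤ 2 ^ 1 := Nat.pow_le_pow_right (by norm_num) (by omega)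
  omega

/-- `S` meets a normal subgroup inside `H` trivially. -/
theorem inf_normal {K : Subgroup G} [K.Normal] (hK : K ≤ H) : S ⊓ K = ⊥ := by
  by_contra hne
  obtain ⟨z, hz, hz2, -⟩ := h.exists_central hne
  exact h.ne_top (eq_top_iff.2 fun g _ =>
    h.fus z hz.1 hz2 g (hK ((inferInstance : K.Normal).conj_mem z hz.2 g)))

/-- The data pass to quotients by normal subgroups inside `H`. -/
theorem map {K : Subgroup G} [K.Normal] (hK : K ≤ H) :
    Two (T.mapSurjective (QuotientGroup.mk'_surjective K)) (S.map (QuotientGroup.mk' K))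
      (H.map (QuotientGroup.mk' K)) := by
  set π := QuotientGroup.mk' K with hπ
  have hmemH : ∀ g : G, π g ∈ H.map π → g ∈ H := by
    rintro g ⟨k, hk, hkg⟩
    simpa using mul_mem hk (hK (QuotientGroup.eq.1 hkg))
  have hone : ∀ x ∈ S, π x = 1 → x = 1 := fun x hx e => by
    have : x ∈ S ⊓ K := ⟨hx, (QuotientGroup.eq_one_iff x).1 e⟩
    rwa [h.inf_normal hK, mem_bot] at this
  have hinv : ∀ x ∈ S, orderOf (π x) = 2 → orderOf x = 2 := fun x hx e => by
    refine orderOf_eq_prime (hone _ (pow_mem hx 2) ?_) fun e' => ?_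
    · rw [map_pow, ← e, pow_orderOf_eq_one]
    · rw [e', map_one, orderOf_one] at e
      omega
  refine ⟨CfsgLib.TwoFusion.StructGold.isStronglyClosed_mapSurjective π _ T h.closed, fun e => h.ne_top ?_,
    ?_, ?_, ?_⟩
  · exact eq_top_iff.2 fun g _ => hmemH g (e ▸ mem_top _)
  · rintro _ ⟨s, hs, rfl⟩ hs1 g hg
    obtain ⟨g, rfl⟩ := QuotientGroup.mk'_surjective K g
    obtain ⟨k, hk⟩ := exists_pow_involution h.le hs (fun e => hs1 (by rw [e, map_one]))
    refine mem_map_of_mem π (h.fus _ (pow_mem hs k) hk g ?_)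
    refine hmemH _ ?_
    have hc : Commute (π g) (π s) := mem_centralizer_singleton_iff.1 hg
    rw [map_mul, map_mul, map_inv, map_pow, (hc.pow_right k).eq, mul_inv_cancel_right]
    exact ⟨_, h.sylow_le (h.le (pow_mem hs k)), by rw [map_pow]⟩
  · rintro _ ⟨x, hx, rfl⟩ hx2 g hg
    obtain ⟨g, rfl⟩ := QuotientGroup.mk'_surjective K g
    exact mem_map_of_mem π (h.fus x hx (hinv x hx hx2) g (hmemH _ (by rw [map_mul, map_mul, map_inv]; exact hg)))
  · obtain ⟨x, hx, y, hy, hx2, hy2, hxy⟩ := h.two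
    have ho : ∀ w ∈ S, orderOf w = 2 → orderOf (π w) = 2 := fun w hw hw2 =>
      orderOf_eq_prime (by rw [← map_pow, ← hw2, pow_orderOf_eq_one, map_one]) fun e => by
        rw [hone w hw e, orderOf_one] at hw2
        omega
    refine ⟨π x, mem_map_of_mem π hx, π y, mem_map_of_mem π hy, ho x hx hx2, ho y hy hy2, fun e => hxy ?_⟩
    exact inv_mul_eq_one.1 (hone _ (mul_mem (inv_mem hx) hy) (by rw [map_mul, map_inv, e, inv_mul_cancel]))

end Two

end CfsgLib.TwoFusion.Foote
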