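import Cfsg.Agent.Lib.TwoFusion.Foote.TwoSimple
import Cfsg.Agent.Lib.Core.SchurZassenhaus
import Mathlib.GroupTheory.Nilpotent

/-!
Owner: helper7. S3289, several involutions in `S`, the faithful case: `S` induces inner automorphisms only, so
lies in `N`, and `S` is `T ∩ N` or has exponent two. No automorphisms of the groups on the list are used.
-/

set_option autoImplicit false
set_option linter.unusedSectionVars false
set_option linter.style.haveILetI false

namespace CfsgLib.TwoFusion.Foote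

open Subgroup Cfsg
open scoped Pointwise
open CfsgLib.TwoFusion.StructGold (exists_sylow_subgroupOf SylFacts)

universe u

variable {G : Type u} [Group G] [Finite G]

/-- Central elements of a Sylow subgroup conjugate in the group are conjugate in its normaliser. -/
theorem exists_normalizer_conj_central (Q : Sylow 2 G) {a b : G} (ha : ∀ x ∈ (Q : Subgroup G), Commute x a)
    (hb : ∀ x ∈ (Q : Subgroup G), Commute x b) (hab : IsConj a b) :
    ∃ n ∈ normalizer ((Q : Subgroup G) : Set G), n * a * n⁻¹ = b := by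
  haveI := Fact.mk Nat.prime_two
  obtain ⟨g, hg⟩ := isConj_iff.1 hab
  obtain ⟨n, hn, hne⟩ := CfsgLib.Transfer.exists_normalizer_conj_of_normal_subsets Q (X := {a}) (Y := {b})
    (fun x hx c hc => by rw [Set.mem_singleton_iff] at hc ⊢; rw [hc, (ha x hx).eq, mul_inv_cancel_right])
    (fun x hx c hc => by rw [Set.mem_singleton_iff] at hc ⊢; rw [hc, (hb x hx).eq, mul_inv_cancel_right])
    (g := g) (by rw [Set.image_singleton, hg])
  rw [Set.image_singleton, Set.singleton_eq_singleton_iff] at hne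
  exact ⟨n, hn, hne⟩

variable {T : Sylow 2 G} {S H N : Subgroup G}

/-- No involution of `S` lies outside `N`. -/
theorem Base.involution_mem (B : Base T S H N) (h : Two T S H) {s : G} (hs : s ∈ S) (hs2 : orderOf s = 2) :
    s ∈ N := by
  haveI := Fact.mk Nat.prime_two
  haveI := B.normal
  by_contra hsN
  obtain ⟨z, hz, hz2, -⟩ := h.exists_central B.meets
  obtain ⟨g, hgN, hgH⟩ := SetLike.not_le_iff_exists.1 B.not_le
  set y := g * z * g⁻¹ with hy
  have hyN : y ∈ N := B.normal.conj_mem z hz.2 g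
  have hy2 : orderOf y = 2 := by rw [← hz2]; exact (MulAut.conj g).orderOf_eq z
  have hss : s * s = 1 := by rw [← pow_two, ← hs2, pow_orderOf_eq_one]
  have hyy : y * y = 1 := by rw [← pow_two, ← hy2, pow_orderOf_eq_one]
  have hsinv : s⁻¹ = s := inv_eq_of_mul_eq_one_right hss
  have hyinv : y⁻¹ = y := inv_eq_of_mul_eq_one_right hyy
  set d := s * y with hd
  have hdinv : d⁻¹ = y * s := by rw [hd, mul_inv_rev, hsinv, hyinv]
  have hsd : ∀ k : ℕ, s * d ^ k * s⁻¹ = (d ^ k)⁻¹ := fun k => by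
    rw [← conj_pow, ← inv_pow]
    congr 1
    rw [hdinv, hd, hsinv, ← mul_assoc, hss, one_mul]
  rcases Nat.even_or_odd' (orderOf d) with ⟨m, hm | hm⟩
  · -- the central involution of the dihedral group
    have hm0 : m ≠ 0 := by
      rintro rfl
      exact (orderOf_pos d).ne' (by simpa using hm)
    set c := d ^ m with hc
    have hc2 : orderOf c = 2 := by
      rw [hc, orderOf_pow_of_dvd hm0 ⟨2, by rw [hm, mul_comm]⟩, hm, Nat.mul_div_cancel _ (Nat.pos_of_ne_zero hm0)]
    have hcc : c⁻¹ = c := inv_eq_of_mul_eq_one_right (by rw [← pow_two, ← hc2, pow_orderOf_eq_one])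
    have hcs : Commute c s := by
      have e := hsd m
      rw [← hc, hcc, mul_inv_eq_iff_eq_mul] at e
      exact e.symm
    have hcy : Commute c y := by
      have hcd : Commute c d := (Commute.refl d).pow_left m
      have e : y = s⁻¹ * d := by rw [hd, inv_mul_cancel_left]
      rw [e, hsinv]
      exact hcs.mul_right hcd
    have hs1 : s ≠ 1 := fun e => hsN (e ▸ one_mem _)
    have hcH : c ∈ H := h.cent s hs hs1 (mem_centralizer_singleton_iff.2 hcs.eq)
    have hgc : g⁻¹ * c * g ∈ H := h.cent z hz.1 (fun e => by rw [e, orderOf_one] at hz2; omega)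
      (mem_centralizer_singleton_iff.2 (by
        calc g⁻¹ * c * g * z = g⁻¹ * (c * y) * g := by rw [hy]; group
          _ = g⁻¹ * (y * c) * g := by rw [hcy.eq]
          _ = z * (g⁻¹ * c * g) := by rw [hy]; group))
    have hR : IsPGroup 2 ↥(zpowers c ⊔ zpowers s) := by
      refine IsPGroup.to_sup_of_normal_left' (IsPGroup.of_card (n := 1) (by rw [Nat.card_zpowers, hc2, pow_one]))
        (IsPGroup.of_card (n := 1) (by rw [Nat.card_zpowers, hs2, pow_one])) ?_
      refine zpowers_le.2 (centralizer_le_normalizer _ (mem_centralizer_iff.2 ?_))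
      rintro _ ⟨i, rfl⟩
      exact (hcs.zpow_left i).eq
    obtain ⟨k, hk, hkT⟩ := h.exists_conj_into hR
      (sup_le (zpowers_le.2 hcH) (zpowers_le.2 (h.sylow_le (h.le hs))))
    have hsS : k * s * k⁻¹ ∈ S := h.closed.2 s hs k (hkT s (mem_sup_right (mem_zpowers s)))
    have hcT : k * c * k⁻¹ ∈ (T : Subgroup G) := hkT c (mem_sup_left (mem_zpowers c))
    have hcS : k * c * k⁻¹ ∈ S := by
      have hmk : (c : G ⧸ N) = (s : G ⧸ N) ^ m := by
        rw [hc, QuotientGroup.mk_pow, hd, QuotientGroup.mk_mul, (QuotientGroup.eq_one_iff y).2 hyN, mul_one]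
      rcases Nat.even_or_odd' m with ⟨i, hi | hi⟩
      · have hcN : c ∈ N := (QuotientGroup.eq_one_iff c).1 (by
          rw [hmk, hi, pow_mul, pow_two, ← QuotientGroup.mk_mul, hss, QuotientGroup.mk_one, one_pow])
        refine B.invol_mem _ hcT (B.normal.conj_mem c hcN k) ?_
        rw [show k * c * k⁻¹ * (k * c * k⁻¹) = k * (c * c) * k⁻¹ by group, ← pow_two, ← hc2, pow_orderOf_eq_one]
        group
      · have hcsN : c * s ∈ N := (QuotientGroup.eq_one_iff (c * s)).1 (by
          rw [QuotientGroup.mk_mul, hmk, hi, pow_succ, pow_mul, pow_two, ← QuotientGroup.mk_mul, hss,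
            QuotientGroup.mk_one, one_pow, one_mul, ← QuotientGroup.mk_mul, hss, QuotientGroup.mk_one])
        have h1 : k * (c * s) * k⁻¹ ∈ S := by
          refine B.invol_mem _ ?_ (B.normal.conj_mem _ hcsN k) ?_
          · rw [show k * (c * s) * k⁻¹ = k * c * k⁻¹ * (k * s * k⁻¹) by group]
            exact mul_mem hcT (h.le hsS)
          · rw [show k * (c * s) * k⁻¹ * (k * (c * s) * k⁻¹) = k * ((c * s) * (c * s)) * k⁻¹ by group,
              mul_assoc c s, ← mul_assoc s c s, ← hcs.eq, mul_assoc c s s, hss, mul_one, ← pow_two,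
              ← hc2, pow_orderOf_eq_one]
            group
        have e : k * c * k⁻¹ = k * (c * s) * k⁻¹ * (k * s * k⁻¹)⁻¹ := by group
        exact e ▸ S.mul_mem h1 (S.inv_mem hsS)
    have hmem : g ∈ H := h.mem_of_pair hcS (by rw [← hc2]; exact (MulAut.conj k).orderOf_eq c) (a := k⁻¹)
      (by simpa [mul_assoc] using hcH) (by simpa [mul_assoc] using hgc)
    exact hgH hmem
  · -- in odd order `s` is conjugate to `y`
    refine hsN ?_
    have e : d ^ (2 * m + 1) = 1 := by rw [← hm, pow_orderOf_eq_one]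
    have h3 : s * (d ^ m)⁻¹ = d ^ m * s := by
      have h4 := congrArg (·⁻¹) (hsd m)
      simp only [mul_inv_rev, inv_inv, ← mul_assoc] at h4
      exact mul_inv_eq_iff_eq_mul.1 h4
    have h2 : d ^ m * s * (d ^ m)⁻¹ = y := by
      rw [mul_assoc, h3, ← mul_assoc, ← pow_add, ← two_mul,
        show d ^ (2 * m) = y * s from by rw [← hdinv]; exact eq_inv_of_mul_eq_one_left (by rw [← pow_succ, e]),
        mul_assoc, hss, mul_one]
    have h5 := B.normal.conj_mem y hyN (d ^ m)⁻¹
    rw [← h2] at h5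
    simpa [mul_assoc] using h5

/-- `S ∩ N` has exponent two or is `T ∩ N`. -/
theorem Base.sq_or_le (B : Base T S H N) (h : Two T S H) :
    (∀ x ∈ S ⊓ N, x * x = 1) ∨ (T : Subgroup G) ⊓ N ≤ S := by
  haveI := B.normal
  obtain ⟨Q, hQ⟩ := exists_sylow_subgroupOf T N
  have hf := (B.good.syl Q).1
  have hmem : ∀ w : N, w ∈ (Q : Subgroup N) ↔ (w : G) ∈ (T : Subgroup G) := fun w => by
    rw [hQ]; rfl
  rcases hf.irr (S.subgroupOf N) (fun w hw => (hmem w).2 (h.le hw))
      (fun w hw hww => B.invol_mem _ ((hmem w).1 hw) w.2 (congrArg Subtype.val hww))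
      (fun n hn k hk => h.closed.2 _ hk _ ((hmem _).1 ((mem_normalizer_iff.1 hn k).1 ((hmem _).2 (h.le hk))))) with
    e | e
  · exact Or.inl fun x hx => congrArg Subtype.val (e ⟨x, hx.2⟩ hx.1)
  · exact Or.inr fun x hx => (e.ge ((hmem ⟨x, hx.2⟩).2 hx.1) : (⟨x, hx.2⟩ : N) ∈ S.subgroupOf N)

/-- In a Sylow subgroup of a group on the list with some element not an involution, involutions are squares. -/
theorem exists_sqrt {L : Type u} [Group L] [Finite L] (Q : Sylow 2 L)
    (hconj : ∀ x y : L, orderOf x = 2 → orderOf y = 2 → IsConj x y)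
    (hcen : ∀ x ∈ (Q : Subgroup L), ∀ y ∈ (Q : Subgroup L), x * x = 1 → x * y = y * x)
    {x : L} (hx : x ∈ (Q : Subgroup L)) (hxx : x * x ≠ 1) {w : L} (hw : w ∈ (Q : Subgroup L))
    (hw2 : orderOf w = 2) : ∃ v ∈ (Q : Subgroup L), v * v = w := by
  haveI := Fact.mk Nat.prime_two
  obtain ⟨j, hj⟩ := IsPGroup.iff_orderOf.1 Q.2 ⟨x, hx⟩
  rw [Subgroup.orderOf_mk] at hj
  obtain ⟨i, rfl⟩ : ∃ i, j = i + 2 := ⟨j - 2, by
    have h1 : ¬ orderOf x ∣ 2 := fun hd => hxx (by
      rw [← pow_two]; exact orderOf_dvd_iff_pow_eq_one.1 hd)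
    rw [hj] at h1
    have : 2 ≤ j := by
      by_contra hlt
      exact h1 ((pow_dvd_pow 2 (show j ≤ 1 by omega)).trans (pow_one 2).dvd)
    omega⟩
  set v := x ^ 2 ^ i with hv
  have hv2 : orderOf (v * v) = 2 := by
    rw [hv, ← pow_add, ← two_mul, ← pow_succ', orderOf_pow_of_dvd (by positivity) ⟨2, by rw [hj, pow_succ]⟩, hj,
      Nat.pow_div (by omega) (by norm_num), show i + 2 - (i + 1) = 1 by omega, pow_one]
  obtain ⟨g, hg⟩ := isConj_iff.1 (hconj _ _ hv2 hw2)
  set C := centralizer ({w} : Set L) with hC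
  have hww : w * w = 1 := by rw [← pow_two, ← hw2, pow_orderOf_eq_one]
  have hQC : (Q : Subgroup L) ≤ C := fun q hq => mem_centralizer_singleton_iff.2 (hcen w hw q hq hww).symm
  have hz : IsPGroup 2 (zpowers (g * v * g⁻¹)) := by
    have := (Q.2.to_le (zpowers_le.2 (pow_mem hx (2 ^ i)))).map (MulAut.conj g).toMonoidHom
    rwa [MonoidHom.map_zpowers] at this
  obtain ⟨c, hc, hcQ⟩ := CfsgLib.Transfer.exists_conj_le Q.2
    (fun hd => Q.not_dvd_index (hd.trans (relIndex_dvd_index_of_le hQC)))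
    (zpowers_le.2 (mem_centralizer_singleton_iff.2 (by
      rw [← hg]; group))) hz
  refine ⟨_, hcQ _ (mem_zpowers _), ?_⟩
  calc c⁻¹ * (g * v * g⁻¹) * c * (c⁻¹ * (g * v * g⁻¹) * c) = c⁻¹ * (g * (v * v) * g⁻¹ * c) := by group
    _ = c⁻¹ * (c * w) := by rw [hg, mem_centralizer_singleton_iff.1 hc]
    _ = w := by group

/-- An element of `S` centralising an elementary `S ∩ N` is inner on `N`. -/
theorem Base.exists_inner (B : Base T S H N) (h : Two T S H) {s : G} (hs : s ∈ S)
    (hab : ∀ x ∈ S ⊓ N, ∀ y ∈ S ⊓ N, Commute x y) (hsx : ∀ x ∈ S ⊓ N, Commute s x) :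
    ∃ w ∈ S ⊓ N, w * s ∈ centralizer (N : Set G) := by
  haveI := Fact.mk Nat.prime_two
  haveI := B.normal
  set X := N ⊔ zpowers s with hX
  have hsX : s ∈ X := mem_sup_right (mem_zpowers s)
  have hdec : ∀ g ∈ X, ∃ l ∈ N, ∃ i : ℤ, g = l * s ^ i := fun g hg => by
    have hg' : g ∈ (X : Set G) := hg
    rw [hX, normal_mul] at hg'
    obtain ⟨l, hl, _, ⟨i, rfl⟩, rfl⟩ := hg'
    exact ⟨l, hl, i, rfl⟩
  obtain ⟨Q, hQ⟩ := CfsgLib.TwoFusion.StructGold.exists_sylow_between (S := T) (le_sup_left : N ≤ X) fun g hg => by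
    obtain ⟨l, hl, i, rfl⟩ := hdec g hg
    exact ⟨l, hl, s ^ i, zpow_mem (h.le hs) i, rfl⟩
  have hdecS : ∀ g ∈ S, g ∈ X → ∃ x ∈ S ⊓ N, ∃ i : ℤ, g = x * s ^ i := fun g hg hgX => by
    obtain ⟨l, hl, i, rfl⟩ := hdec g hgX
    exact ⟨l, ⟨by simpa using S.mul_mem hg (S.inv_mem (S.zpow_mem hs i)), hl⟩, i, rfl⟩
  have hcl : CfsgLib.TwoFusion.StructGold.Closed Q (S.subgroupOf X) := by
    refine ⟨⟨⟨fun a b => Subtype.ext (Subtype.ext ?_)⟩⟩, ?_⟩
    · show ((a : X) : G) * ((b : X) : G) = ((b : X) : G) * ((a : X) : G)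
      obtain ⟨x, hx, i, hxi⟩ := hdecS _ a.2 (a : X).2
      obtain ⟨y, hy, j, hyj⟩ := hdecS _ b.2 (b : X).2
      simp only [Subgroup.coe_subtype] at hxi hyj
      rw [hxi, hyj]
      have h1 : Commute x (y * s ^ j) := (hab x hx y hy).mul_right ((hsx x hx).symm.zpow_right j)
      have h2 : Commute (s ^ i) (y * s ^ j) :=
        ((hsx y hy).zpow_left i).mul_right ((Commute.refl s).zpow_zpow i j)
      exact (h1.mul_left h2).eq
    · rw [hQ]
      exact ⟨fun x hx => h.le hx, fun x hx g hg => h.closed.2 x hx g hg⟩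
  have eN : ↥(N.subgroupOf X) ≃* ↥N := subgroupOfEquivOfLe le_sup_left
  haveI := B.simple
  have hgood : CfsgLib.TwoFusion.StructGold.Good ↥(N.subgroupOf X) := good_of_equiv B.noncomm B.embedded eN
  have hne' : S.subgroupOf X ⊓ N.subgroupOf X ≠ ⊥ := fun e => B.meets (by
    have e' : (S ⊓ N).subgroupOf X = ⊥ := e
    rw [subgroupOf_eq_bot] at e'
    exact disjoint_self.1 (e'.mono_right (inf_le_right.trans le_sup_left)))
  haveI : IsSimpleGroup ↥(N.subgroupOf X) := eN.isSimpleGroup_congr.2 inferInstance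
  obtain ⟨i, hi, hi2⟩ := hcl.exists_involution hne'
  have hO' : pPrimeCore 2 ↥(N.subgroupOf X) = ⊥ :=
    CfsgLib.TwoFusion.StructGold.pPrimeCore_eq_bot (t := (⟨i, hi.2⟩ : N.subgroupOf X))
      (by rw [Subgroup.orderOf_mk, hi2])
  have htop : N.subgroupOf X ⊔ S.subgroupOf X = ⊤ := by
    refine eq_top_iff.2 fun g _ => ?_
    obtain ⟨l, hl, i, hg⟩ := hdec (g : G) g.2
    rw [show g = ⟨l, mem_sup_left hl⟩ * (⟨s, hsX⟩ : X) ^ i from Subtype.ext (by simpa using hg)]
    exact mul_mem (mem_sup_left (show (⟨l, _⟩ : X) ∈ N.subgroupOf X from hl))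
      (mem_sup_right (Subgroup.zpow_mem _ (show (⟨s, hsX⟩ : X) ∈ S.subgroupOf X from hs) i))
  obtain ⟨w, hw, hwc⟩ := hcl.exists_central_mul hgood hne' hO' htop (a := ⟨s, hsX⟩) hs
  exact ⟨w, ⟨hw.1, hw.2⟩, mem_centralizer_iff.2 fun x hx =>
    (congrArg Subtype.val (hwc ⟨x, mem_sup_left hx⟩).eq).symm⟩

/-- `S` lies in `N`. -/
theorem Base.le (B : Base T S H N) (h : Two T S H) : S ≤ N := by
  haveI := Fact.mk Nat.prime_two
  haveI := B.normal
  haveI := B.simple
  obtain ⟨Q, hQ⟩ := exists_sylow_subgroupOf T N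
  have hf := (B.good.syl Q).1
  have hmem : ∀ w : N, w ∈ (Q : Subgroup N) ↔ (w : G) ∈ (T : Subgroup G) := fun w => by
    rw [hQ]; rfl
  suffices key : ∀ s ∈ S, s * s ∈ N → s ∈ N by
    intro s hs
    obtain ⟨j, hj⟩ := IsPGroup.iff_orderOf.1 T.2 ⟨s, h.le hs⟩
    rw [Subgroup.orderOf_mk] at hj
    have hdown : ∀ j : ℕ, ∀ s ∈ S, s ^ 2 ^ j ∈ N → s ∈ N := by
      intro j
      induction j with
      | zero => intro s _ hsN; simpa using hsN
      | succ j ih =>
        intro s hs hsN
        refine key s hs (ih _ (mul_mem hs hs) ?_)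
        rwa [← pow_two, ← pow_mul, ← pow_succ']
    exact hdown j s hs (by rw [← hj, pow_orderOf_eq_one]; exact one_mem _)
  intro s hs hsN
  obtain ⟨z, hz, hz2, -⟩ := h.exists_central B.meets
  have hTle : ∀ x ∈ S ⊓ N, (∀ y ∈ (T : Subgroup G) ⊓ N, y * y = 1) → x * x = 1 := fun x hx h' =>
    h' x ⟨h.le hx.1, hx.2⟩
  by_cases hTS : (T : Subgroup G) ⊓ N ≤ S
  · -- an odd complement of `Q` in its normaliser supplies an involution in the coset
    by_contra hsN'
    obtain ⟨a, b, ha, hb, hab, habc⟩ := B.good.two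
    set W := normalizer ((Q : Subgroup N) : Set N) with hW'
    set QW := (Q : Subgroup N).subgroupOf W with hQW
    haveI : QW.Normal := Subgroup.normal_in_normalizer
    have hcardQ : Nat.card QW = Nat.card (Q : Subgroup N) :=
      Nat.card_congr (subgroupOfEquivOfLe le_normalizer).toEquiv
    have hidx : ¬ 2 ∣ QW.index := fun hd =>
      Q.not_dvd_index (hd.trans (relIndex_dvd_index_of_le le_normalizer))
    obtain ⟨k, hk⟩ := (Q.2).exists_card_eq
    have hcop : (Nat.card QW).Coprime QW.index := by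
      rw [hcardQ, hk]
      exact ((Nat.prime_two.coprime_iff_not_dvd).2 hidx).pow_left k
    obtain ⟨A₀, hA₀⟩ := exists_right_complement'_of_coprime hcop
    set A := A₀.map W.subtype with hAdef
    have hAW : A ≤ W := map_subtype_le _
    have hAcard : Nat.card A = QW.index := by
      rw [hAdef, Subgroup.card_map_of_injective W.subtype_injective, ← hA₀.symm.index_eq_card]
    -- the elements of `Q` centralising `A` are trivial
    have hcent : ∀ x ∈ (Q : Subgroup N), (∀ y ∈ A, x * y = y * x) → x = 1 := by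
      intro x hx hxA
      by_contra hx1
      obtain ⟨i, hi⟩ : ∃ i : ℕ, orderOf (x ^ i) = 2 := by
        obtain ⟨i, hi⟩ := exists_pow_involution (T := T) (S := (T : Subgroup G)) le_rfl (s := (x : G))
          ((hmem x).1 hx) (fun e => hx1 (Subtype.ext e))
        exact ⟨i, by rw [← Subgroup.orderOf_coe, SubgroupClass.coe_pow]; exact hi⟩
      set u := x ^ i with hu
      have huA : ∀ y ∈ A, u * y = y * u := fun y hy => ((show Commute x y from hxA y hy).pow_left i).eq
      have huQ : u ∈ (Q : Subgroup N) := pow_mem hx i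
      have huu : u * u = 1 := by rw [← pow_two, ← hi, pow_orderOf_eq_one]
      have huniq : ∀ v ∈ (Q : Subgroup N), orderOf v = 2 → v = u := by
        intro v hv hv2
        have hvv : v * v = 1 := by rw [← pow_two, ← hv2, pow_orderOf_eq_one]
        obtain ⟨n, hn, hnu⟩ := exists_normalizer_conj_central Q (fun y hy => (hf.central u huQ y hy huu).symm)
          (fun y hy => (hf.central v hv y hy hvv).symm) (B.good.conj u v hi hv2)
        have hn' : (⟨n, hn⟩ : W) ∈ ((QW ⊔ A₀ : Subgroup W) : Set W) := by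
          rw [hA₀.sup_eq_top]; exact mem_top _
        rw [normal_mul] at hn'
        obtain ⟨q, hq, a', ha', hqa⟩ := hn'
        have hn2 : (q : N) * (a' : N) = n := congrArg Subtype.val hqa
        rw [← hnu, ← hn2]
        have h1 : (a' : N) * u * (a' : N)⁻¹ = u := by
          rw [← (huA (a' : N) (mem_map_of_mem W.subtype ha') :), mul_inv_cancel_right]
        rw [show (q : N) * (a' : N) * u * ((q : N) * (a' : N))⁻¹ = q * ((a' : N) * u * (a' : N)⁻¹) * (q : N)⁻¹ by group,
          h1, ← (hf.central u huQ q hq huu), mul_inv_cancel_right]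
      -- but there are at least two involutions
      have hp : IsPGroup 2 ↥(zpowers a ⊔ zpowers b) := by
        refine IsPGroup.to_sup_of_normal_left' (IsPGroup.of_card (n := 1) (by rw [Nat.card_zpowers, ha, pow_one]))
          (IsPGroup.of_card (n := 1) (by rw [Nat.card_zpowers, hb, pow_one])) ?_
        refine zpowers_le.2 (centralizer_le_normalizer _ (mem_centralizer_iff.2 ?_))
        rintro _ ⟨l, rfl⟩
        exact ((show Commute a b from habc).zpow_left l).eq
      obtain ⟨P, hP⟩ := hp.exists_le_sylow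
      obtain ⟨g, hg⟩ := MulAction.exists_smul_eq N P Q
      have hto : ∀ v ∈ zpowers a ⊔ zpowers b, g * v * g⁻¹ ∈ (Q : Subgroup N) := fun v hv => by
        rw [← hg, Sylow.coe_subgroup_smul]
        exact Subgroup.smul_mem_pointwise_smul v (MulAut.conj g) _ (hP hv)
      have e1 := huniq _ (hto a (mem_sup_left (mem_zpowers a))) (((MulAut.conj g).orderOf_eq a).trans ha)
      have e2 := huniq _ (hto b (mem_sup_right (mem_zpowers b))) (((MulAut.conj g).orderOf_eq b).trans hb)
      exact hab (by simpa using e1.trans e2.symm)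
    -- conjugation by `s` on `N`
    let σ : MulAut N := MulAut.conjNormal s
    have hσQ : ∀ w ∈ (Q : Subgroup N), σ w ∈ (Q : Subgroup N) := fun w hw => (hmem _).2 (by
      show ((MulAut.conjNormal s : MulAut N) w : G) ∈ _
      rw [MulAut.conjNormal_apply]
      exact mul_mem (mul_mem (h.le hs) ((hmem w).1 hw)) (inv_mem (h.le hs)))
    have hσQ' : (Q : Subgroup N).map σ.toMonoidHom = (Q : Subgroup N) := by
      refine eq_of_le_of_card_ge ?_ (Nat.card_congr ((Q : Subgroup N).equivMapOfInjective _ σ.injective).toEquiv).le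
      rintro _ ⟨w, hw, rfl⟩
      exact hσQ w hw
    have hsupW : A ⊔ (Q : Subgroup N) = W := by
      have e : (Q : Subgroup N) = QW.map W.subtype := by
        rw [hQW, subgroupOf_map_subtype, inf_eq_left.2 le_normalizer]
      rw [hAdef, e, sup_comm, ← Subgroup.map_sup, hA₀.sup_eq_top, ← MonoidHom.range_eq_map, range_subtype]
    have hK : A.map σ.toMonoidHom ≤ A ⊔ (Q : Subgroup N) := by
      rw [hsupW]
      rintro _ ⟨w, hw, rfl⟩
      have := le_normalizer_map σ.toMonoidHom (mem_map_of_mem σ.toMonoidHom (hAW hw))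
      rwa [hσQ'] at this
    haveI : Group.IsNilpotent (Q : Subgroup N) := Q.2.isNilpotent
    obtain ⟨n, hn, hnA⟩ := CfsgLib.Core.exists_conj_eq_of_coprime (hAW) hK
      (Subgroup.card_map_of_injective σ.injective) (by rw [hAcard, ← hcardQ]; exact hcop.symm) (Or.inl inferInstance)
    set s' := (n : G)⁻¹ * s with hs'
    have hnS : (n : G) ∈ S := hTS ⟨(hmem n).1 hn, n.2⟩
    have hs'S : s' ∈ S := mul_mem (inv_mem hnS) hs
    have hs'A : ∀ w ∈ A, (MulAut.conjNormal s' : MulAut N) w ∈ A := by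
      intro w hw
      obtain ⟨v, hv, hve⟩ : σ w ∈ (MulAut.conj n • A : Subgroup N) := hnA ▸ mem_map_of_mem _ hw
      have hve' : n * v * n⁻¹ = σ w := hve
      have e : (MulAut.conjNormal s' : MulAut N) w = n⁻¹ * σ w * n := Subtype.ext (by
        show _ = (n : G)⁻¹ * ((MulAut.conjNormal s : MulAut N) w : G) * (n : G)
        rw [MulAut.conjNormal_apply, MulAut.conjNormal_apply, hs']
        group)
      rw [e, ← hve']
      simpa [mul_assoc] using hv
    have hs'N : s' * s' ∈ N := by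
      rw [← QuotientGroup.eq_one_iff, QuotientGroup.mk_mul, hs', QuotientGroup.mk_mul, QuotientGroup.mk_inv,
        (QuotientGroup.eq_one_iff (n : G)).2 n.2, inv_one, one_mul, ← QuotientGroup.mk_mul,
        (QuotientGroup.eq_one_iff _).2 hsN]
    have hone : (⟨s' * s', hs'N⟩ : N) = 1 := by
      refine hcent _ ((hmem _).2 (mul_mem (h.le hs'S) (h.le hs'S))) fun w hw => ?_
      set r : N := ⟨s' * s', hs'N⟩ with hr
      have hrQ : r ∈ (Q : Subgroup N) := (hmem _).2 (mul_mem (h.le hs'S) (h.le hs'S))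
      have e : r * w * r⁻¹ = (MulAut.conjNormal s' : MulAut N) ((MulAut.conjNormal s' : MulAut N) w) :=
        Subtype.ext (by
          show s' * s' * (w : G) * (s' * s')⁻¹ = _
          rw [MulAut.conjNormal_apply, MulAut.conjNormal_apply]
          group)
      have h1 : r * w * r⁻¹ * w⁻¹ ∈ A := mul_mem (e ▸ hs'A _ (hs'A w hw)) (inv_mem hw)
      have h2 : r * w * r⁻¹ * w⁻¹ ∈ (Q : Subgroup N) := by
        rw [show r * w * r⁻¹ * w⁻¹ = r * (w * r⁻¹ * w⁻¹) by group]
        exact mul_mem hrQ ((mem_normalizer_iff.1 (hAW hw) r⁻¹).1 (inv_mem hrQ))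
      obtain ⟨a', ha', hae⟩ := h1
      have h3 : a' ∈ QW ⊓ A₀ := ⟨by
        show (a' : N) ∈ (Q : Subgroup N)
        rw [show (a' : N) = r * w * r⁻¹ * w⁻¹ from hae]
        exact h2, ha'⟩
      rw [hA₀.disjoint.eq_bot, mem_bot] at h3
      have h4 : r * w * r⁻¹ * w⁻¹ = 1 := by rw [← hae, h3, map_one]
      exact mul_inv_eq_iff_eq_mul.1 (mul_inv_eq_one.1 h4)
    have hs'1 : s' ≠ 1 := fun e => hsN' (by
      rw [hs', inv_mul_eq_one] at e
      exact e ▸ n.2)
    have := B.involution_mem h hs'S (orderOf_eq_prime (by rw [pow_two]; exact congrArg Subtype.val hone) hs'1)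
    exact hsN' (by simpa [hs'] using mul_mem n.2 this)
  · -- `s` centralises `S ∩ N`
    have hsq := (B.sq_or_le h).resolve_right hTS
    obtain ⟨x₀, hx₀, hx₀'⟩ : ∃ x ∈ (T : Subgroup G) ⊓ N, x * x ≠ 1 := by
      by_contra hall
      push Not at hall
      exact hTS fun x hx => B.invol_mem x hx.1 hx.2 (hall x hx)
    have hscomm : ∀ x ∈ S ⊓ N, Commute s x := by
      intro x hx
      by_cases hx1 : x = 1
      · exact hx1 ▸ Commute.one_right s
      obtain ⟨v, hv, hvx⟩ := exists_sqrt Q B.good.conj hf.central (x := ⟨x₀, hx₀.2⟩) ((hmem _).2 hx₀.1)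
        (fun e => hx₀' (congrArg Subtype.val e)) (w := ⟨x, hx.2⟩) ((hmem _).2 (h.le hx.1))
        (orderOf_eq_prime (Subtype.ext (by show x ^ 2 = 1; rw [pow_two]; exact hsq x hx))
          fun e => hx1 (congrArg Subtype.val e))
      have hvx' : (v : G) * v = x := congrArg Subtype.val hvx
      set w := s * (v : G) * s⁻¹ * (v : G)⁻¹ with hw
      have hwS : w ∈ S ⊓ N := ⟨by
        rw [hw, show s * (v : G) * s⁻¹ * (v : G)⁻¹ = s * ((v : G) * s⁻¹ * (v : G)⁻¹) by group]
        exact S.mul_mem hs (h.normalize ((hmem v).1 hv) (S.inv_mem hs)),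
        N.mul_mem (B.normal.conj_mem v v.2 s) (N.inv_mem v.2)⟩
      have hww := hsq w hwS
      have hwv : Commute w v := congrArg Subtype.val
        (hf.central ⟨w, hwS.2⟩ ((hmem _).2 (h.le hwS.1)) v hv (Subtype.ext hww))
      refine mul_inv_eq_iff_eq_mul.1 ?_
      rw [← hvx']
      calc s * ((v : G) * v) * s⁻¹ = w * ((v : G) * w) * v := by rw [hw]; group
        _ = w * (w * v) * v := by rw [← hwv.eq]
        _ = (v : G) * v := by rw [← mul_assoc, hww, one_mul]
    have hab : ∀ x ∈ S ⊓ N, ∀ y ∈ S ⊓ N, Commute x y := fun x hx y hy => congrArg Subtype.val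
      (hf.central ⟨x, hx.2⟩ ((hmem _).2 (h.le hx.1)) ⟨y, hy.2⟩ ((hmem _).2 (h.le hy.1)) (Subtype.ext (hsq x hx)))
    obtain ⟨w, hw, hwc⟩ := B.exists_inner h hs hab hscomm
    rw [B.cent_bot, mem_bot] at hwc
    rw [eq_inv_of_mul_eq_one_right hwc]
    exact inv_mem hw.2

end CfsgLib.TwoFusion.Foote
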