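import Cfsg.Agent.Lib.TwoFusion.Foote.TwoInner

/-!
Owner: helper7. S3289 with several involutions in `S`: `conclusion_of_two`. Modulo the odd core `X = ⟨S^G⟩` is the
simple group `N`: the kernel `X ∩ core(H)` is central, and is killed by transfer when `S` is a Sylow subgroup of
`N`, by the structure theorem when `S` is elementary.
-/

set_option autoImplicit false
set_option linter.unusedSectionVars false
set_option linter.style.haveILetI false

namespace CfsgLib.TwoFusion.Foote

open Subgroup Cfsg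
open CfsgLib.TwoFusion.StructGold (exists_sylow_subgroupOf)

universe u

variable {G : Type u} [Group G] [Finite G] {T : Sylow 2 G} {S H : Subgroup G}

/-- The image of a normal closure. -/
theorem map_closureOf (E : Subgroup G) {K : Type u} [Group K] (f : G →* K) (hf : Function.Surjective f) :
    (normalClosure (E : Set G)).map f = normalClosure ((E.map f : Subgroup K) : Set K) := by
  rw [coe_map, map_normalClosure _ f hf]

/-- The closure of a strongly closed subgroup in itself is everything. -/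
theorem sup_normal_eq (hsc : IsStronglyClosed S (T : Subgroup G)) {X : Subgroup G} [X.Normal]
    (hX : X = normalClosure (S : Set G)) {K : Subgroup G} (hKn : X ≤ normalizer (K : Set G))
    (hSK : S ≤ K) (hKX : K ≤ X) (hK : ∀ n ∈ normalizer (((T : Subgroup G) ⊓ X : Subgroup G) : Set G),
      ∀ x ∈ K, n * x * n⁻¹ ∈ K) : K = X := by
  haveI := Fact.mk Nat.prime_two
  obtain ⟨Q, hQ⟩ := exists_sylow_subgroupOf T X
  have hQm : (Q : Subgroup X).map X.subtype = (T : Subgroup G) ⊓ X := by rw [hQ, subgroupOf_map_subtype]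
  haveI : K.Normal := by
    rw [← normalizer_eq_top_iff, eq_top_iff]
    intro g _
    have hg : g ∈ ((normalizer ((Q : Subgroup X).map X.subtype : Set G) ⊔ X : Subgroup G) : Set G) := by
      rw [Sylow.normalizer_sup_eq_top Q]
      trivial
    rw [hQm, mul_normal] at hg
    obtain ⟨n, hn, x, hx, rfl⟩ := hg
    refine mul_mem ?_ (hKn hx)
    rw [← CfsgLib.Transfer.map_conj_eq_self_iff]
    refine eq_of_le_of_card_ge ?_ (Nat.card_congr (K.equivMapOfInjective _ (MulAut.conj n).injective).toEquiv).le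
    rintro _ ⟨k, hk, rfl⟩
    exact hK n hn k hk
  exact le_antisymm hKX (hX ▸ normalClosure_le_normal hSK)

namespace Two

variable (h : Two T S H)

include h

theorem map_base :
    ∃ N, Base (T.mapSurjective (QuotientGroup.mk'_surjective H.normalCore)) (S.map (QuotientGroup.mk' H.normalCore))
        (H.map (QuotientGroup.mk' H.normalCore)) N ∧
      (normalClosure (S : Set G)).map (QuotientGroup.mk' H.normalCore) = N ∧
      S.map (QuotientGroup.mk' H.normalCore) ≤ N := by
  set π := QuotientGroup.mk' H.normalCore with hπdef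
  have hπ : Function.Surjective π := QuotientGroup.mk'_surjective _
  have h' := h.map (K := H.normalCore) H.normalCore_le
  have hcore : (H.map π).normalCore = ⊥ := by
    rw [← map_comap_eq_self_of_surjective hπ (H.map π).normalCore, Subgroup.map_eq_bot_iff,
      QuotientGroup.ker_mk']
    refine normal_le_normalCore.2 ((comap_mono (H.map π).normalCore_le).trans ?_)
    rw [comap_map_eq, QuotientGroup.ker_mk', sup_eq_left.2 H.normalCore_le]
  obtain ⟨N, B⟩ := h'.exists_base hcore
  have hSN := B.le h'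
  haveI := B.normal
  haveI := B.simple
  refine ⟨N, B, ?_, hSN⟩
  rw [map_closureOf S π hπ]
  refine le_antisymm (normalClosure_le_normal hSN) ?_
  rcases IsSimpleGroup.eq_bot_or_eq_top_of_normal ((normalClosure ((S.map π : Subgroup _) : Set _)).subgroupOf N)
      inferInstance with e | e
  · obtain ⟨s, hs, hs1⟩ := (bot_or_exists_ne_one _).resolve_left h'.ne_bot
    have hm : (⟨s, hSN hs⟩ : N) ∈ (⊥ : Subgroup N) := e ▸ (subset_normalClosure hs :)
    exact absurd (congrArg Subtype.val (mem_bot.1 hm)) hs1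
  · rwa [subgroupOf_eq_top] at e

/-- With trivial odd core the closure of `S` meets the core of `H` trivially. -/
theorem inf_core_eq_bot
    (hO : pPrimeCore 2 G = ⊥) : normalClosure (S : Set G) ⊓ H.normalCore = ⊥ := by
  haveI := Fact.mk Nat.prime_two
  obtain ⟨N, B, hXN, hSN⟩ := h.map_base
  set K := H.normalCore with hKdef
  set π := QuotientGroup.mk' K with hπdef
  have hπ : Function.Surjective π := QuotientGroup.mk'_surjective _
  set X := normalClosure (S : Set G) with hXdef
  have hSX : S ≤ X := fun s hs => subset_normalClosure hs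
  have hSK : S ⊓ K = ⊥ := h.inf_normal H.normalCore_le
  have hcent : X ≤ centralizer (K : Set G) := normalClosure_le_normal fun s hs => mem_centralizer_iff.2 fun k hk => by
    have := le_centralizer_of_inf_eq_bot h.closed hO hSK hs hk
    exact mem_centralizer_singleton_iff.1 this
  set R := X ⊓ K with hR
  have hRc : R.subgroupOf X ≤ center X := fun r hr => mem_center_iff.2 fun x => Subtype.ext
    (mem_centralizer_iff.1 (hcent x.2) r hr.2).symm
  obtain ⟨Q, hQ⟩ := exists_sylow_subgroupOf T X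
  have hOX : pPrimeCore 2 X = ⊥ := (map_eq_bot_iff_of_injective _ X.subtype_injective).1
    (le_bot_iff.1 ((CfsgLib.Core.map_subtype_pPrimeCore_le (p := 2) X).trans hO.le))
  have hinj : ∀ x ∈ S, π x = 1 → x = 1 := fun x hx e => by
    have : x ∈ S ⊓ K := ⟨hx, (QuotientGroup.eq_one_iff x).1 e⟩
    rwa [hSK, mem_bot] at this
  -- it is enough to kill the 2-part
  suffices hRT : ∀ r ∈ R, r ∈ (T : Subgroup G) → r = 1 by
    haveI hRn : R.Normal := inferInstance
    refine le_bot_iff.1 ((CfsgLib.Core.le_pPrimeCore ?_).trans hO.le)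
    rw [Nat.coprime_comm, Nat.prime_two.coprime_iff_not_dvd]
    intro hd
    obtain ⟨r, hr⟩ := exists_prime_orderOf_dvd_card' 2 hd
    obtain ⟨P, hP⟩ := (IsPGroup.of_card (n := 1) (by rw [Nat.card_zpowers, orderOf_coe, hr, pow_one]) :
      IsPGroup 2 (zpowers (r : G))).exists_le_sylow
    obtain ⟨g, hg⟩ := MulAction.exists_smul_eq G P T
    have hm : g * r * g⁻¹ ∈ (T : Subgroup G) := by
      rw [← hg, Sylow.coe_subgroup_smul]
      exact Subgroup.smul_mem_pointwise_smul _ (MulAut.conj g) _ (hP (mem_zpowers _))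
    have e := hRT _ (hRn.conj_mem r r.2 g) hm
    rw [conj_eq_one_iff] at e
    rw [← orderOf_coe, e, orderOf_one] at hr
    omega
  have hNimg : ∀ x ∈ X, π x ∈ N := fun x hx => hXN ▸ mem_map_of_mem π hx
  have h' := h.map (K := K) H.normalCore_le
  rcases B.sq_or_le h' with hsq | hTS
  · -- `S` is elementary
    have hS2 : ∀ x ∈ S, x * x = 1 := fun x hx => hinj _ (mul_mem hx hx) (by
      rw [map_mul]; exact hsq _ ⟨mem_map_of_mem π hx, hSN (mem_map_of_mem π hx)⟩)
    have hScomm : IsMulCommutative S := by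
      refine ⟨⟨fun a b => Subtype.ext ?_⟩⟩
      show (a : G) * b = b * a
      have e1 := hS2 a a.2
      have e2 := hS2 b b.2
      have e3 := hS2 _ (mul_mem a.2 b.2)
      calc (a : G) * b = (a : G) * (b : G) * ((b : G) * a * ((b : G) * a)) := by
            rw [hS2 _ (mul_mem b.2 a.2), mul_one]
        _ = ((a : G) * ((b : G) * b) * a) * ((b : G) * a) := by group
        _ = (b : G) * a := by rw [e2, mul_one, e1, one_mul]
    have hcl : CfsgLib.TwoFusion.StructGold.Closed T S := ⟨hScomm, h.closed⟩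
    have hXcl := hcl.subgroup Q hQ
    have hA : S.subgroupOf X ⊓ pCore 2 X = ⊥ := by
      refine eq_bot_iff.2 fun x hx => mem_bot.2 (Subtype.ext (hinj _ hx.1 ?_))
      let σ : X →* N := (π.comp X.subtype).codRestrict N fun y => hNimg y y.2
      have hσ : Function.Surjective σ := fun y => by
        obtain ⟨w, hw, hwe⟩ : (y : G ⧸ K) ∈ X.map π := hXN.symm ▸ y.2
        exact ⟨⟨w, hw⟩, Subtype.ext hwe⟩
      have h1 : σ x ∈ pCore 2 N := CfsgLib.Core.map_pCore_le σ hσ (mem_map_of_mem σ hx.2)
      have h2 : pCore 2 N = ⊥ := by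
        haveI := B.simple
        refine (IsSimpleGroup.eq_bot_or_eq_top_of_normal _ (inferInstance : (pCore 2 N).Normal)).resolve_right
          fun e => B.noncomm ?_
        have hp : IsPGroup 2 N := (CfsgLib.Core.isPGroup_pCore 2 N).of_equiv
          ((MulEquiv.subgroupCongr e).trans Subgroup.topEquiv)
        haveI := hp.isNilpotent
        haveI : Group.IsSolvable N := inferInstance
        exact ⟨⟨fun a b => IsSimpleGroup.comm_iff_isSolvable.2 inferInstance a b⟩⟩
      rw [h2, mem_bot] at h1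
      exact congrArg Subtype.val h1
    -- the quotient by the 2-core is `N`
    let σ : X →* N := (π.comp X.subtype).codRestrict N fun y => hNimg y y.2
    have hσ : Function.Surjective σ := fun y => by
      obtain ⟨w, hw, hwe⟩ : (y : G ⧸ K) ∈ X.map π := hXN.symm ▸ y.2
      exact ⟨⟨w, hw⟩, Subtype.ext hwe⟩
    have hσker : σ.ker = pCore 2 X := by
      refine le_antisymm ?_ fun x hx => ?_
      · intro x hx
        have hxR : x ∈ R.subgroupOf X :=
          ⟨x.2, (QuotientGroup.eq_one_iff (x : G)).1 (congrArg Subtype.val (MonoidHom.mem_ker.1 hx) :)⟩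
        obtain ⟨k, m, hm, hkm⟩ := Nat.exists_eq_pow_mul_and_not_dvd (orderOf_pos x).ne' 2 (by norm_num)
        haveI : (zpowers (x ^ 2 ^ k)).Normal := ⟨fun y hy g => by
          rw [mem_center_iff.1 (hRc ((zpowers_le.2 (pow_mem hxR _)) hy)) g, mul_inv_cancel_right]
          exact hy⟩
        have h1 : x ^ 2 ^ k ∈ pPrimeCore 2 X := CfsgLib.Core.le_pPrimeCore (by
          rw [Nat.card_zpowers, orderOf_pow_of_dvd (by positivity) ⟨m, hkm⟩, hkm,
            Nat.mul_div_cancel_left _ (by positivity), Nat.coprime_comm, Nat.prime_two.coprime_iff_not_dvd]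
          exact hm) (mem_zpowers _)
        rw [hOX, mem_bot] at h1
        haveI : (zpowers x).Normal := ⟨fun y hy g => by
          rw [mem_center_iff.1 (hRc ((zpowers_le.2 hxR) hy)) g, mul_inv_cancel_right]
          exact hy⟩
        obtain ⟨j, -, hj⟩ := (Nat.dvd_prime_pow Nat.prime_two).1 (orderOf_dvd_of_pow_eq_one h1)
        exact CfsgLib.Core.le_pCore (IsPGroup.of_card (n := j) (by rw [Nat.card_zpowers, hj])) (mem_zpowers x)
      · haveI := B.simple
        refine MonoidHom.mem_ker.2 ?_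
        have h1 : σ x ∈ pCore 2 N := CfsgLib.Core.map_pCore_le σ hσ (mem_map_of_mem σ hx)
        rcases IsSimpleGroup.eq_bot_or_eq_top_of_normal (pCore 2 N) inferInstance with e | e
        · rwa [e, mem_bot] at h1
        · refine absurd ?_ B.noncomm
          have hp : IsPGroup 2 N := (CfsgLib.Core.isPGroup_pCore 2 N).of_equiv
            ((MulEquiv.subgroupCongr e).trans Subgroup.topEquiv)
          haveI := hp.isNilpotent
          haveI : Group.IsSolvable N := inferInstance
          exact ⟨⟨fun a b => IsSimpleGroup.comm_iff_isSolvable.2 inferInstance a b⟩⟩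
    have hbot := hXcl.pCore_eq_bot_of_decomp hcl.normalClosure_subgroupOf hA fun _ => by
      set ν := QuotientGroup.mk' (pCore 2 X) with hν
      let eq₀ : X ⧸ pCore 2 X ≃* N :=
        (QuotientGroup.quotientMulEquivOfEq hσker.symm).trans (QuotientGroup.quotientKerEquivOfSurjective σ hσ)
      have heq₀ : ∀ x : X, eq₀ (ν x) = σ x := fun x => rfl
      let eT : ↥(⊤ : Subgroup (X ⧸ pCore 2 X)) ≃* N := Subgroup.topEquiv.trans eq₀
      haveI := B.simple
      refine ⟨⟨1, fun _ => ⊤, fun i j _ => Subsingleton.elim i j, fun _ => inferInstance,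
        fun _ => eT.isSimpleGroup_congr.2 inferInstance, fun _ hc => B.noncomm ⟨⟨fun x y => eT.symm.injective (by
          rw [map_mul, map_mul]; exact hc.is_comm.comm _ _)⟩⟩,
        fun _ => good_of_equiv B.noncomm B.embedded eT, fun _ he => ?_, iSup_const, fun y hy hyy => ?_, ?_⟩⟩
      · obtain ⟨s, hs, hs1⟩ := (bot_or_exists_ne_one S).resolve_left h.ne_bot
        have hm : ν ⟨s, hSX hs⟩ ∈ (S.subgroupOf X).map ν ⊓ ⊤ :=
          ⟨mem_map_of_mem ν (show (⟨s, hSX hs⟩ : X) ∈ S.subgroupOf X from hs), mem_top _⟩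
        rw [he, mem_bot] at hm
        refine hs1 (hinj s hs ?_)
        exact congrArg Subtype.val ((heq₀ ⟨s, hSX hs⟩).symm.trans (by rw [hm, map_one]))
      · rw [Sylow.coe_mapSurjective] at hy
        obtain ⟨t, ht, rfl⟩ := hy
        have ht' : (t : G) ∈ (T : Subgroup G) := by rw [hQ] at ht; exact ht
        have hsq' : (σ t : G ⧸ K) * σ t = 1 := by
          rw [← heq₀, ← Subgroup.coe_mul, ← map_mul, hyy, map_one, OneMemClass.coe_one]
        obtain ⟨s, hs, hse⟩ := B.invol_mem _
          (show π (t : G) ∈ ((T.mapSurjective (QuotientGroup.mk'_surjective K) : Sylow 2 _) : Subgroup (G ⧸ K)) by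
            rw [Sylow.coe_mapSurjective]; exact mem_map_of_mem π ht')
          (hNimg _ t.2) hsq'
        refine ⟨⟨s, hSX hs⟩, hs, eq₀.injective ?_⟩
        rw [heq₀, heq₀]
        exact Subtype.ext hse
      · exact le_iSup_of_le (0 : Fin 1) (le_inf le_rfl le_top)
    intro r hr hrT
    haveI : (R.subgroupOf X).Normal := (inferInstance : R.Normal).subgroupOf X
    set V := ((T : Subgroup G) ⊓ R).subgroupOf X with hV
    haveI : V.Normal := ⟨fun v hv g => by
      have e : g * v * g⁻¹ = v := by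
        rw [mem_center_iff.1 (hRc (show v ∈ R.subgroupOf X from hv.2)) g, mul_inv_cancel_right]
      rw [e]
      exact hv⟩
    have hVp : IsPGroup 2 V := (T.2.to_inf_left : IsPGroup 2 ↥((T : Subgroup G) ⊓ R)).comap_subtype
    have hm : (⟨r, hr.1⟩ : X) ∈ pCore 2 X := CfsgLib.Core.le_pCore hVp (show (⟨r, hr.1⟩ : X) ∈ V from ⟨hrT, hr⟩)
    rw [hbot, mem_bot] at hm
    exact congrArg Subtype.val hm
  · -- `S` covers the Sylow subgroup: transfer
    have hPS : ∀ x ∈ X, x ∈ (T : Subgroup G) → ∃ s ∈ S, ∃ r ∈ R, x = s * r := fun x hx hxT => by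
      obtain ⟨s, hs, hse⟩ := hTS ⟨(by rw [Sylow.coe_mapSurjective]; exact mem_map_of_mem π hxT), hNimg x hx⟩
      exact ⟨s, hs, s⁻¹ * x, ⟨X.mul_mem (X.inv_mem (hSX hs)) hx, QuotientGroup.eq.1 hse⟩, by group⟩
    have hfoc : _root_.commutator X ⊓ (Q : Subgroup X) ≤ S.subgroupOf X := by
      refine CfsgLib.Transfer.commutator_inf_le_of_fusion Q _ fun x hx g hg => ?_
      rw [hQ] at hx hg
      obtain ⟨s, hs, r, hr, hxe⟩ := hPS x x.2 hx
      have hrc : ∀ y ∈ X, Commute r y := fun y hy => mem_centralizer_iff.1 (hcent hy) r hr.2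
      show (x : G)⁻¹ * ((g : G)⁻¹ * x * g) ∈ S
      have hrT : r ∈ (T : Subgroup G) := by
        rw [show r = s⁻¹ * x by rw [hxe]; group]
        exact mul_mem (inv_mem (h.le hs)) hx
      have e : (g : G)⁻¹ * x * g = (g : G)⁻¹ * s * g * r := by
        rw [hxe, show (g : G)⁻¹ * (s * r) * g = (g : G)⁻¹ * s * (r * g) by group, (hrc g g.2).eq]
        group
      have hgs : (g : G)⁻¹ * s * (g : G)⁻¹⁻¹ ∈ S := h.closed.2 s hs _ (by
        rw [inv_inv, show (g : G)⁻¹ * s * g = (g : G)⁻¹ * x * g * r⁻¹ by rw [e]; group]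
        exact mul_mem hg (inv_mem hrT))
      rw [inv_inv] at hgs
      rw [e, hxe, mul_inv_rev, show r⁻¹ * s⁻¹ * ((g : G)⁻¹ * s * g * r) = r⁻¹ * (s⁻¹ * ((g : G)⁻¹ * s * g)) * r by group]
      have hc := hrc (s⁻¹ * ((g : G)⁻¹ * s * g)) (X.mul_mem (X.inv_mem (hSX hs)) (hSX hgs))
      rw [show r⁻¹ * (s⁻¹ * ((g : G)⁻¹ * s * g)) * r = s⁻¹ * ((g : G)⁻¹ * s * g) by
        rw [mul_assoc r⁻¹, ← hc.eq, inv_mul_cancel_left]]
      exact S.mul_mem (S.inv_mem hs) hgs
    set D := (_root_.commutator X).map X.subtype with hD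
    have hD' : D = ⁅X, X⁆ := map_subtype_commutator X
    haveI : D.Normal := hD' ▸ Subgroup.commutator_normal X X
    have hJ : S ⊔ D = X := by
      refine sup_normal_eq (T := T) h.closed hXdef ?_ le_sup_left (sup_le hSX (map_subtype_le _)) ?_
      · intro x hx
        refine mem_normalizer_iff.2 fun w => ?_
        have hcx : ∀ v ∈ X, ∀ u ∈ S ⊔ D, v * u * v⁻¹ ∈ S ⊔ D := by
          intro v hv u hu
          have huX : u ∈ X := (sup_le hSX (map_subtype_le _) : S ⊔ D ≤ X) hu
          have hd : v * u * v⁻¹ * u⁻¹ ∈ D := by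
            rw [hD']
            exact commutator_mem_commutator hv huX
          simpa using mul_mem (mem_sup_right hd : _ ∈ S ⊔ D) hu
        exact ⟨hcx x hx w, fun hw => by simpa [mul_assoc] using hcx x⁻¹ (X.inv_mem hx) _ hw⟩
      · intro n hn w hw
        have hnS : ∀ u ∈ S, n * u * n⁻¹ ∈ S := fun u hu =>
          h.closed.2 u hu n ((mem_normalizer_iff.1 hn u).1 ⟨h.le hu, hSX hu⟩).1
        have hle : S ⊔ D ≤ (S ⊔ D).comap (MulAut.conj n).toMonoidHom :=
          sup_le (fun u hu => mem_sup_left (hnS u hu))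
            fun u hu => mem_sup_right ((inferInstance : D.Normal).conj_mem u hu n)
        exact hle hw
    intro r hr hrT
    have hrJ : r ∈ ((S ⊔ D : Subgroup G) : Set G) := by rw [hJ]; exact hr.1
    rw [mul_normal] at hrJ
    obtain ⟨s, hs, d, hd, rfl⟩ := hrJ
    obtain ⟨d, hd, rfl⟩ := hd
    have hdT : (d : G) ∈ (T : Subgroup G) := by
      simpa using mul_mem (inv_mem (h.le hs)) hrT
    have hdS : (d : G) ∈ S := hfoc ⟨hd, by rw [hQ]; exact hdT⟩
    have : s * (d : G) ∈ S ⊓ K := ⟨S.mul_mem hs hdS, hr.2⟩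
    rwa [hSK, mem_bot] at this

end Two

/-- **S3289 with several involutions in `S`**, from the fusion property of `H`, without inputs. -/
theorem conclusion_of_two
    (T : Sylow 2 G) (S : Subgroup G) (hsc : IsStronglyClosed S (T : Subgroup G)) (H : Subgroup G) (hH : H ≠ ⊤)
    (hC : ∀ s ∈ S, s ≠ 1 → centralizer ({s} : Set G) ≤ H)
    (hfus : ∀ x ∈ S, orderOf x = 2 → ∀ g : G, g * x * g⁻¹ ∈ H → g ∈ H)
    (htwo : ∃ x ∈ S, ∃ y ∈ S, orderOf x = 2 ∧ orderOf y = 2 ∧ x ≠ y) :
    Cfsg.IsStronglyEmbedded ((H ⊓ normalClosure (S : Set G)).subgroupOf (normalClosure (S : Set G))) ∧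
      (S = (T : Subgroup G) ⊓ normalClosure (S : Set G) ∨
        S = Cfsg.omegaOne 2 ((T : Subgroup G) ⊓ normalClosure (S : Set G))) ∧
      (Cfsg.PRankLE 2 1 ↥S → S = (T : Subgroup G) ⊓ normalClosure (S : Set G)) := by
  haveI := Fact.mk Nat.prime_two
  have h : Two T S H := ⟨hsc, hH, hC, hfus, htwo⟩
  set X := normalClosure (S : Set G) with hX
  have hSX : S ≤ X := fun s hs => subset_normalClosure hs
  set K := H.normalCore with hK
  -- the kernel is odd
  have hXK : X ⊓ K ≤ pPrimeCore 2 G := by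
    set O := pPrimeCore 2 G with hO
    set ρ := QuotientGroup.mk' O with hρdef
    have hρ : Function.Surjective ρ := QuotientGroup.mk'_surjective _
    have hcore : K.map ρ ≤ (H.map ρ).normalCore := by
      haveI : (K.map ρ).Normal := (inferInstance : K.Normal).map ρ hρ
      exact normal_le_normalCore.2 (map_mono H.normalCore_le)
    have hbot := (h.map (K := O) h.oddCore_le).inf_core_eq_bot (CfsgLib.Core.pPrimeCore_quotient_pPrimeCore 2 G)
    intro x hx
    have : ρ x ∈ normalClosure ((S.map ρ : Subgroup _) : Set _) ⊓ (H.map ρ).normalCore :=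
      ⟨map_closureOf S ρ hρ ▸ mem_map_of_mem ρ hx.1, hcore (mem_map_of_mem ρ hx.2)⟩
    rw [hbot, mem_bot] at this
    exact (QuotientGroup.eq_one_iff x).1 this
  have hXKT : ∀ x ∈ (T : Subgroup G), x ∈ X → x ∈ K → x = 1 := fun x hxT hxX hxK => by
    obtain ⟨j, hj⟩ := IsPGroup.iff_orderOf.1 T.2 ⟨x, hxT⟩
    rw [Subgroup.orderOf_mk] at hj
    rw [← orderOf_eq_one_iff, hj]
    refine Nat.eq_one_of_dvd_coprimes ((CfsgLib.Core.coprime_card_pPrimeCore 2 G).symm.pow_left j) dvd_rfl ?_
    rw [← hj, ← Subgroup.orderOf_mk x (hXK ⟨hxX, hxK⟩)]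
    exact orderOf_dvd_natCard _
  obtain ⟨N, B, hXN, hSN⟩ := h.map_base
  set π := QuotientGroup.mk' K with hπdef
  haveI := B.normal
  have hNimg : ∀ x ∈ X, π x ∈ N := fun x hx => hXN ▸ mem_map_of_mem π hx
  have hmemH : ∀ g : G, π g ∈ H.map π → g ∈ H := by
    rintro g ⟨k, hk, hkg⟩
    simpa using mul_mem hk (H.normalCore_le (QuotientGroup.eq.1 hkg))
  have hback : ∀ x ∈ (T : Subgroup G), x ∈ X → π x ∈ S.map π → x ∈ S := fun x hxT hxX hx => by
    obtain ⟨s, hs, hse⟩ := hx
    have := hXKT (s⁻¹ * x) (mul_mem (inv_mem (h.le hs)) hxT) (mul_mem (inv_mem (hSX hs)) hxX) (QuotientGroup.eq.1 hse)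
    rwa [← inv_mul_eq_one.1 this]
  have hTimg : ∀ x ∈ (T : Subgroup G), π x ∈ ((T.mapSurjective (QuotientGroup.mk'_surjective K) : Sylow 2 _) :
      Subgroup (G ⧸ K)) := fun x hx => by
    rw [Sylow.coe_mapSurjective]
    exact mem_map_of_mem π hx
  refine ⟨⟨fun e => ?_, ?_, fun g hg => ?_⟩, ?_, fun hr => ?_⟩
  · refine B.not_le fun y hy => ?_
    obtain ⟨x, hx, rfl⟩ : y ∈ X.map π := hXN.symm ▸ hy
    refine mem_map_of_mem π ?_
    rw [subgroupOf_eq_top] at e
    exact (e hx).1
  · obtain ⟨x, hx, -, -, hx2, -, -⟩ := htwo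
    rw [even_iff_two_dvd, ← hx2, ← Subgroup.orderOf_mk x (hSX hx)]
    exact Subgroup.orderOf_dvd_natCard _ (show (⟨x, hSX hx⟩ : X) ∈ (H ⊓ X).subgroupOf X from
      ⟨h.sylow_le (h.le hx), hSX hx⟩)
  · by_contra hev
    rw [Nat.not_odd_iff_even, even_iff_two_dvd] at hev
    obtain ⟨c, hc⟩ := exists_prime_orderOf_dvd_card' 2 hev
    obtain ⟨hc1, c', hc', hce⟩ := c.2
    have hc2 : orderOf ((c : X) : G) = 2 := by rw [orderOf_coe, orderOf_coe, hc]
    have hgN : π g ∈ N := hNimg g g.2
    have hg' : (⟨π g, hgN⟩ : N) ∉ (H.map π).subgroupOf N := fun hm => hg ⟨hmemH g hm, g.2⟩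
    obtain ⟨k, hk, hkT⟩ := h.exists_conj_into
      (IsPGroup.of_card (n := 1) (by rw [Nat.card_zpowers, hc2, pow_one]) : IsPGroup 2 (zpowers ((c : X) : G)))
      (zpowers_le.2 hc1.1)
    have hne : π ((c : X) : G) ≠ 1 := fun e => by
      have hck : k * ((c : X) : G) * k⁻¹ = 1 := hXKT _ (hkT _ (mem_zpowers _))
        ((inferInstance : X.Normal).conj_mem _ (c : X).2 k)
        ((inferInstance : K.Normal).conj_mem _ ((QuotientGroup.eq_one_iff _).1 e) k)
      rw [conj_eq_one_iff] at hck
      rw [hck, orderOf_one] at hc2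
      omega
    set c₁ : N := ⟨π ((c : X) : G), hNimg _ (c : X).2⟩ with hc₁
    have hm : c₁ ∈ (H.map π).subgroupOf N ⊓
        ((H.map π).subgroupOf N).map (MulAut.conj (⟨π g, hgN⟩ : N)).toMonoidHom := by
      refine ⟨mem_map_of_mem π hc1.1, ⟨π (c' : G), hNimg _ c'.2⟩, mem_map_of_mem π hc'.1, Subtype.ext ?_⟩
      show π g * π (c' : G) * (π g)⁻¹ = π ((c : X) : G)
      rw [← map_inv, ← map_mul, ← map_mul, ← hce]
      rfl
    have hodd := B.embedded.2.2 _ hg'
    have hord : orderOf c₁ = 2 := orderOf_eq_prime (Subtype.ext (by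
      show π ((c : X) : G) ^ 2 = 1
      rw [← map_pow, ← hc2, pow_orderOf_eq_one, map_one])) fun e => hne (congrArg Subtype.val e)
    have hdvd := Subgroup.orderOf_dvd_natCard _ hm
    rw [hord, ← even_iff_two_dvd] at hdvd
    exact Nat.not_even_iff_odd.2 hodd hdvd
  · rcases B.sq_or_le (h.map (K := K) H.normalCore_le) with hsq | hTS
    · refine Or.inr (le_antisymm ?_ ((closure_le _).2 ?_))
      · intro x hx
        refine subset_closure (show x ∈ (T : Subgroup G) ⊓ X ∧ x ^ 2 = 1 from ⟨⟨h.le hx, hSX hx⟩, ?_⟩)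
        refine hXKT _ ((T : Subgroup G).pow_mem (h.le hx) 2) (X.pow_mem (hSX hx) 2) ?_
        refine (QuotientGroup.eq_one_iff _).1 ?_
        show π (x ^ 2) = 1
        rw [map_pow, pow_two]
        exact hsq _ ⟨mem_map_of_mem π hx, hSN (mem_map_of_mem π hx)⟩
      · rintro x ⟨⟨hxT, hxX⟩, hx2⟩
        exact hback x hxT hxX (B.invol_mem _ (hTimg x hxT) (hNimg x hxX) (by
          rw [← map_mul, ← pow_two, hx2, map_one]))
    · exact Or.inl (le_antisymm (le_inf h.le hSX) fun x hx =>
        hback x hx.1 hx.2 (hTS ⟨hTimg x hx.1, hNimg x hx.2⟩))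
  · -- the rank is at least two
    exfalso
    obtain ⟨z, hz, hz2, hzc⟩ := h.exists_central (N := ⊤) (by rw [inf_top_eq]; exact h.ne_bot)
    obtain ⟨x, hx, hx2, hxz⟩ : ∃ x ∈ S, orderOf x = 2 ∧ x ≠ z := by
      obtain ⟨x, hx, y, hy, hx2, hy2, hxy⟩ := htwo
      by_cases e : x = z
      · exact ⟨y, hy, hy2, fun e' => hxy (e.trans e'.symm)⟩
      · exact ⟨x, hx, hx2, e⟩
    have hc : Commute x z := hzc x (h.le hx)
    set xs : S := ⟨x, hx⟩
    set zs : S := ⟨z, hz.1⟩
    have hcs : Commute xs zs := Subtype.ext hc.eq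
    haveI hcomm : IsMulCommutative (closure ({xs, zs} : Set S)) := Subgroup.isMulCommutative_closure (by
      rintro a (rfl | rfl) b (rfl | rfl)
      exacts [rfl, hcs.eq, hcs.eq.symm, rfl])
    have hexp : ∀ a ∈ closure ({xs, zs} : Set S), a ^ 2 = 1 := by
      intro a ha
      induction ha using closure_induction with
      | mem a ha =>
        rcases ha with rfl | rfl
        · exact Subtype.ext (show x ^ 2 = 1 by rw [← hx2, pow_orderOf_eq_one])
        · exact Subtype.ext (show z ^ 2 = 1 by rw [← hz2, pow_orderOf_eq_one])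
      | one => exact one_pow 2
      | mul a b ha hb ha' hb' =>
        have : Commute a b := congrArg Subtype.val (hcomm.is_comm.comm ⟨a, ha⟩ ⟨b, hb⟩)
        rw [this.mul_pow, ha', hb', one_mul]
      | inv a _ ha' => rw [inv_pow, ha', inv_one]
    have h1 := hr _ hcomm hexp
    haveI : Fintype (closure ({xs, zs} : Set S)) := Fintype.ofFinite _
    have h3 : 3 ≤ Nat.card (closure ({xs, zs} : Set S)) := by
      rw [Nat.card_eq_fintype_card]
      exact Fintype.two_lt_card_iff.2 ⟨⟨1, one_mem _⟩, ⟨xs, subset_closure (Set.mem_insert _ _)⟩,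
        ⟨zs, subset_closure (Set.mem_insert_of_mem _ rfl)⟩,
        fun e => by
          have := congrArg (fun a : (closure ({xs, zs} : Set S)) => ((a : S) : G)) e
          simp only [OneMemClass.coe_one, xs] at this
          rw [← this, orderOf_one] at hx2
          omega,
        fun e => by
          have := congrArg (fun a : (closure ({xs, zs} : Set S)) => ((a : S) : G)) e
          simp only [OneMemClass.coe_one, zs] at this
          rw [← this, orderOf_one] at hz2
          omega,
        fun e => hxz (congrArg (fun a : (closure ({xs, zs} : Set S)) => ((a : S) : G)) e :)⟩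
    omega

end CfsgLib.TwoFusion.Foote
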