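import Cfsg.Agent.Lib.TwoFusion.Foote.TwoBasic
import Cfsg.Agent.Lib.Invol.AschCrit.MainProof
import Cfsg.Agent.Lib.Invol.AschCrit.Wrapper

/-!
Owner: helper7. S3289, several involutions in `S`, the faithful case: `G` has a normal simple subgroup `N` with
trivial centraliser, `H ∩ N` is strongly embedded in it, and `N` is on the list of Goldschmidt groups.
-/

set_option autoImplicit false
set_option linter.unusedSectionVars false
set_option linter.style.haveILetI false

namespace CfsgLib.TwoFusion.Foote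

open Subgroup Cfsg
open CfsgLib.TwoFusion.StructGold (exists_sylow_subgroupOf Good)

universe u

variable {G : Type u} [Group G] [Finite G]

/-- A simple group with a strongly embedded subgroup is on the list. -/
theorem good_of_embedded [IsSimpleGroup G] {M : Subgroup G} (hM : IsStronglyEmbedded M)
    (htwo : ∃ s t : G, orderOf s = 2 ∧ orderOf t = 2 ∧ s ≠ t ∧ s * t = t * s) : Good G := by
  haveI := Fact.mk Nat.prime_two
  have hconj : ∀ x y : G, orderOf x = 2 → orderOf y = 2 → IsConj x y := fun x y hx hy =>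
    CfsgLib.TwoGroups.SE.isConj_involutions hM hx hy
  obtain ⟨s, t, hs, ht, hne, hst⟩ := htwo
  obtain ⟨x, hx⟩ := CfsgLib.TwoGroups.SE.exists_fixed hM hs
  obtain ⟨g, rfl⟩ := QuotientGroup.mk_surjective x
  rw [CfsgLib.TwoGroups.SE.smul_mk_eq_iff] at hx
  have htM : g⁻¹ * t * g ∈ M := CfsgLib.Bender.mem_of_commute_involution hM
    (by rw [CfsgLib.TwoGroups.SE.orderOf_conj', hs]) hx
    (show g⁻¹ * t * g * (g⁻¹ * s * g) = g⁻¹ * s * g * (g⁻¹ * t * g) from by
      calc g⁻¹ * t * g * (g⁻¹ * s * g) = g⁻¹ * (t * s) * g := by group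
        _ = g⁻¹ * (s * t) * g := by rw [hst]
        _ = _ := by group)
  have hfam := CfsgLib.Bender.family_of_simple CfsgLib.Bender.benderGen hM ⟨_, hx, _, htM,
    by rw [CfsgLib.TwoGroups.SE.orderOf_conj', hs], by rw [CfsgLib.TwoGroups.SE.orderOf_conj', ht],
    fun h => hne (by simpa using h), by
      calc g⁻¹ * s * g * (g⁻¹ * t * g) = g⁻¹ * (s * t) * g := by group
        _ = g⁻¹ * (t * s) * g := by rw [hst]
        _ = _ := by group⟩
  rcases hfam with ⟨F, iF, iT, hF2, h4, ⟨e⟩⟩ | ⟨F, iF, iT, q, hq2, hq4, hF, ⟨e⟩⟩ | hsz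
  · exact CfsgLib.TwoFusion.StructGold.good_SL_two h4 e ⟨s, t, hs, ht, hne, hst⟩
  · exact CfsgLib.TwoFusion.StructGold.good_unitary hq2 hq4 hF e hconj ⟨s, t, hs, ht, hne, hst⟩
  · exact CfsgLib.TwoFusion.StructGold.good_suzuki hsz hconj ⟨s, t, hs, ht, hne, hst⟩

/-- Strong embedding is preserved by isomorphisms. -/
theorem embedded_comap {L : Type u} [Group L] (e : L ≃* G) {M : Subgroup G} (hM : IsStronglyEmbedded M) :
    IsStronglyEmbedded (M.comap e.toMonoidHom) := by
  have hmap : ∀ K : Subgroup L, Nat.card (K.map e.toMonoidHom) = Nat.card K := fun K =>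
    Subgroup.card_map_of_injective e.injective
  refine ⟨fun h => hM.1 ?_, ?_, fun g hg => ?_⟩
  · rw [← map_comap_eq_self_of_surjective (f := e.toMonoidHom) e.surjective M, h,
      map_top_of_surjective e.toMonoidHom e.surjective]
  · rw [← hmap, map_comap_eq_self_of_surjective (f := e.toMonoidHom) e.surjective]
    exact hM.2.1
  · rw [← hmap, Subgroup.map_inf _ _ _ e.injective, Subgroup.map_map,
      show e.toMonoidHom.comp (MulAut.conj g).toMonoidHom = (MulAut.conj (e g)).toMonoidHom.comp e.toMonoidHom by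
        ext x; simp,
      ← Subgroup.map_map, map_comap_eq_self_of_surjective (f := e.toMonoidHom) e.surjective]
    exact hM.2.2 (e g) hg

/-- An isomorphic copy of a simple group with a strongly embedded subgroup is on the list. -/
theorem good_of_equiv [IsSimpleGroup G] (hna : ¬ IsMulCommutative G) {M : Subgroup G} (hM : IsStronglyEmbedded M)
    {L : Type u} [Group L] [Finite L] (e : L ≃* G) : Good L := by
  haveI : IsSimpleGroup L := e.isSimpleGroup_congr.2 inferInstance
  have hna' : ¬ IsMulCommutative L := fun hc => hna ⟨⟨fun x y => e.symm.injective (by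
    rw [map_mul, map_mul]; exact hc.is_comm.comm _ _)⟩⟩
  have h2 : 2 ∣ Nat.card L := by
    rw [Nat.card_congr e.toEquiv]
    exact (even_iff_two_dvd.1 hM.2.1).trans M.card_subgroup_dvd_card
  exact good_of_embedded (embedded_comap e hM) (CfsgLib.Orders.EPPOPrimes.exists_commuting_involutions hna' h2)

/-- The simple normal subgroup. -/
structure Base (T : Sylow 2 G) (S H N : Subgroup G) : Prop where
  normal : N.Normal
  simple : IsSimpleGroup N
  noncomm : ¬ IsMulCommutative N
  cent_bot : centralizer (N : Set G) = ⊥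
  meets : S ⊓ N ≠ ⊥
  not_le : ¬ N ≤ H
  embedded : IsStronglyEmbedded (H.subgroupOf N)
  good : Good N
  invol_mem : ∀ x ∈ (T : Subgroup G), x ∈ N → x * x = 1 → x ∈ S

variable {T : Sylow 2 G} {S H : Subgroup G}

/-- An element of `S` centralises a normal subgroup missing `S`, when `O(G) = 1`. -/
theorem le_centralizer_of_inf_eq_bot (hsc : IsStronglyClosed S (T : Subgroup G)) (hO : pPrimeCore 2 G = ⊥)
    {N : Subgroup G} [N.Normal] (hN : S ⊓ N = ⊥) {s : G} (hs : s ∈ S) : N ≤ centralizer ({s} : Set G) := by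
  intro n hn
  have h1 := commutator_mem_of_inf_eq_bot hsc hN hs hn
  rw [hO, mem_bot] at h1
  exact mem_centralizer_singleton_iff.2 (mul_inv_eq_iff_eq_mul.1 (mul_inv_eq_one.1 h1)).symm

namespace Two

variable (h : Two T S H)

include h

/-- Restriction to a normal subgroup meeting `S`. -/
theorem inf_sylow {N : Subgroup G} [N.Normal] (Q : Sylow 2 N) (hQ : (Q : Subgroup N) = (T : Subgroup G).subgroupOf N) :
    IsStronglyClosed (S.subgroupOf N) (Q : Subgroup N) := by
  rw [hQ]
  exact ⟨fun x hx => h.le hx, fun x hx g hg => h.closed.2 x hx g hg⟩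

theorem oddCore_eq_bot (hK : H.normalCore = ⊥) : pPrimeCore 2 G = ⊥ :=
  le_bot_iff.1 (hK ▸ normal_le_normalCore.2 h.oddCore_le)

theorem exists_base (hK : H.normalCore = ⊥) : ∃ N, Base T S H N := by
  classical
  haveI := Fact.mk Nat.prime_two
  have hO := h.oddCore_eq_bot hK
  have htop : (⊤ : Subgroup G) ≠ ⊥ := fun e => h.ne_top (le_antisymm le_top (e ▸ bot_le))
  obtain ⟨N, hNn, hN1, -, hmin⟩ := CfsgLib.Core.exists_minimal_normal_le' (⊤ : Subgroup G) htop
  haveI := hNn
  have hle_of : ∀ K : Subgroup G, K.Normal → K ≤ H → K = ⊥ := fun K hKn hle => by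
    haveI := hKn
    exact le_bot_iff.1 (hK ▸ normal_le_normalCore.2 hle)
  have hNH : ¬ N ≤ H := fun hle => hN1 (hle_of N hNn hle)
  -- `S` meets `N`
  obtain ⟨x, hx, y, hy, hx2, -, -⟩ := h.two
  have hmeet : S ⊓ N ≠ ⊥ := fun e => hNH ((le_centralizer_of_inf_eq_bot h.closed hO e hx).trans
    (h.cent x hx (fun e => by rw [e, orderOf_one] at hx2; omega)))
  obtain ⟨z, hz, hz2, hzc⟩ := h.exists_central hmeet
  have hz1 : z ≠ 1 := fun e => by rw [e, orderOf_one] at hz2; omega
  -- `N` is simple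
  obtain ⟨Q, hQ⟩ := exists_sylow_subgroupOf T N
  have hON : pPrimeCore 2 N = ⊥ := (map_eq_bot_iff_of_injective _ N.subtype_injective).1
    (le_bot_iff.1 ((CfsgLib.Core.map_subtype_pPrimeCore_le (p := 2) N).trans hO.le))
  have hna : ¬ IsMulCommutative N := fun hc => by
    obtain ⟨n, hn, hnH⟩ := SetLike.not_le_iff_exists.1 hNH
    exact hnH (h.cent z hz.1 hz1 (mem_centralizer_singleton_iff.2
      (congrArg Subtype.val (hc.is_comm.comm ⟨n, hn⟩ ⟨z, hz.2⟩))))
  haveI : Nontrivial N := N.nontrivial_iff_ne_bot.2 hN1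
  obtain ⟨L, hLn, hL1, -, hLmin⟩ := CfsgLib.Core.exists_minimal_normal_le' (⊤ : Subgroup N) top_ne_bot
  haveI := hLn
  let 𝓛 : G → Subgroup N := fun g => L.map (MulAut.conjNormal g : MulAut N).toMonoidHom
  have h𝓛n : ∀ g, (𝓛 g).Normal := fun g => hLn.map _ (MulAut.conjNormal g : MulAut N).surjective
  have h𝓛min : ∀ g, ∀ K : Subgroup N, K.Normal → K ≤ 𝓛 g → K = ⊥ ∨ K = 𝓛 g := by
    intro g K hKn hle
    rcases hLmin (K.map (MulAut.conjNormal g : MulAut N).symm.toMonoidHom) (hKn.map _ (MulEquiv.surjective _)) (by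
      rintro _ ⟨k, hk, rfl⟩
      obtain ⟨l, hl, rfl⟩ := hle hk
      simpa using hl) with e | e
    · exact Or.inl ((map_eq_bot_iff_of_injective _ (MulEquiv.injective _)).1 e)
    · refine Or.inr ?_
      show K = L.map _
      rw [← e, Subgroup.map_map]
      convert (Subgroup.map_id K).symm
      ext w
      simp
  have hcomm : ∀ g k, 𝓛 g ≠ 𝓛 k → ∀ a ∈ 𝓛 g, ∀ b ∈ 𝓛 k, Commute a b := fun g k hne a ha b hb => by
    refine commute_of_normal_of_disjoint _ _ (h𝓛n g) (h𝓛n k) ?_ a b ha hb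
    rw [disjoint_iff]
    haveI := h𝓛n g
    haveI := h𝓛n k
    rcases h𝓛min g (𝓛 g ⊓ 𝓛 k) inferInstance inf_le_left with e | e
    · exact e
    · rcases h𝓛min k (𝓛 g) (h𝓛n g) (inf_eq_left.1 e) with e' | e'
      · rw [e', bot_inf_eq]
      · exact absurd e' hne
  have hconj : ∀ g k : G, ∀ a : N, a ∈ 𝓛 k → (MulAut.conjNormal g : MulAut N) a ∈ 𝓛 (g * k) := by
    rintro g k _ ⟨l, hl, rfl⟩
    exact ⟨l, hl, by simp⟩
  have h𝓛H : (∃ g, 𝓛 g ≠ L) → ∀ g, ∀ a ∈ 𝓛 g, (a : G) ∈ H := by
    intro hmove g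
    by_cases hS' : ∃ k, 𝓛 k ≠ 𝓛 g ∧ S.subgroupOf N ⊓ 𝓛 k ≠ ⊥
    · obtain ⟨k, hk, hk'⟩ := hS'
      obtain ⟨u, hu, hu1⟩ := (bot_or_exists_ne_one _).resolve_left hk'
      exact fun a ha => h.cent u hu.1 (fun e => hu1 (Subtype.ext e))
        (mem_centralizer_singleton_iff.2 (congrArg Subtype.val (hcomm g k hk.symm a ha u hu.2).eq))
    push Not at hS'
    have hfree : ∀ k, S.subgroupOf N ⊓ 𝓛 k = ⊥ → ∀ a ∈ 𝓛 k, (a : G) ∈ H := by
      intro k hk a ha
      haveI := h𝓛n k
      have := le_centralizer_of_inf_eq_bot (h.inf_sylow Q hQ) hON hk (s := ⟨z, hz.2⟩) hz.1 ha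
      exact h.cent z hz.1 hz1 (mem_centralizer_singleton_iff.2
        (congrArg Subtype.val (mem_centralizer_singleton_iff.1 this)))
    by_cases hg : S.subgroupOf N ⊓ 𝓛 g = ⊥
    · exact hfree g hg
    obtain ⟨k, hk⟩ : ∃ k, 𝓛 k ≠ 𝓛 g := by
      by_contra hall
      push Not at hall
      obtain ⟨m, hm⟩ := hmove
      refine hm ((hall m).trans ((hall 1).symm.trans ?_))
      show L.map _ = L
      convert Subgroup.map_id L
      ext w
      simp
    have hkH := hfree k (hS' k hk)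
    obtain ⟨u, hu, hu1⟩ := (bot_or_exists_ne_one _).resolve_left hg
    obtain ⟨i, hi⟩ := exists_pow_involution h.le hu.1 (fun e => hu1 (Subtype.ext e))
    have hc : k * g⁻¹ ∈ H := h.fus _ (pow_mem hu.1 i) hi _ (by
      have h1 := hkH _ (show (MulAut.conjNormal (k * g⁻¹) : MulAut N) (u ^ i) ∈ 𝓛 k by
        simpa [mul_assoc] using hconj (k * g⁻¹) g (u ^ i) (pow_mem hu.2 i))
      rwa [MulAut.conjNormal_apply, SubgroupClass.coe_pow] at h1)
    intro a ha
    have h1 := hkH _ (show (MulAut.conjNormal (k * g⁻¹) : MulAut N) a ∈ 𝓛 k by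
      simpa [mul_assoc] using hconj (k * g⁻¹) g a ha)
    rw [MulAut.conjNormal_apply] at h1
    simpa [mul_assoc] using H.mul_mem (H.mul_mem (H.inv_mem hc) h1) hc
  have hall : ∀ g, 𝓛 g = L := by
    by_contra hno
    push Not at hno
    have hH' := h𝓛H hno
    set J : Subgroup G := (⨆ g, 𝓛 g).map N.subtype with hJ
    haveI hJn : J.Normal := ⟨fun w hw g => by
      obtain ⟨v, hv, rfl⟩ := hw
      refine ⟨(MulAut.conjNormal g : MulAut N) v, ?_, MulAut.conjNormal_apply g v⟩
      have hle : (⨆ k, 𝓛 k) ≤ (⨆ k, 𝓛 k).comap (MulAut.conjNormal g : MulAut N).toMonoidHom :=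
        iSup_le fun k a ha => le_iSup 𝓛 (g * k) (hconj g k a ha)
      exact hle hv⟩
    have hJH : J ≤ H := by
      rintro _ ⟨v, hv, rfl⟩
      exact (iSup_le fun k a ha => hH' k a ha : (⨆ k, 𝓛 k) ≤ H.comap N.subtype) hv
    have := hle_of J hJn hJH
    rw [hJ, map_eq_bot_iff_of_injective _ N.subtype_injective, iSup_eq_bot] at this
    exact hL1 ((map_eq_bot_iff_of_injective L (MulEquiv.injective _)).1 (this 1))
  have hLtop : L = ⊤ := by
    haveI hn : (L.map N.subtype).Normal := ⟨fun w hw g => by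
      obtain ⟨v, hv, rfl⟩ := hw
      exact ⟨_, (hall g).le (mem_map_of_mem _ hv), MulAut.conjNormal_apply g v⟩⟩
    refine map_injective N.subtype_injective ?_
    rw [← MonoidHom.range_eq_map, range_subtype]
    exact (hmin _ hn (map_subtype_le L)).resolve_left fun e =>
      hL1 ((map_eq_bot_iff_of_injective _ N.subtype_injective).1 e)
  haveI : IsSimpleGroup N :=
    { eq_bot_or_eq_top_of_normal := fun K hK => hLtop ▸ hLmin K hK (hLtop ▸ le_top) }
  -- trivial centraliser
  have hC : centralizer (N : Set G) = ⊥ := by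
    by_contra hne
    obtain ⟨K, hKn, hK1, hKle, -⟩ := CfsgLib.Core.exists_minimal_normal_le' (centralizer (N : Set G)) hne
    refine hK1 (hle_of K hKn fun k hk => h.cent z hz.1 hz1 (mem_centralizer_singleton_iff.2 ?_))
    exact (mem_centralizer_iff.1 (hKle hk) z hz.2).symm
  -- strong embedding
  have hM : IsStronglyEmbedded (H.subgroupOf N) := by
    refine CfsgLib.AschCrit.stronglyEmbedded_of_main CfsgLib.AschCrit.mainProved _
      (fun e => hNH (subgroupOf_eq_top.1 e)) ⟨z, hz.2⟩ (by rw [Subgroup.orderOf_mk, hz2])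
      (h.sylow_le (h.le hz.1))
      ⟨Q, show (⟨z, hz.2⟩ : N) ∈ (Q : Subgroup N) by rw [hQ]; exact h.le hz.1,
        fun t ht => Subtype.ext (hzc t (by
          have ht' : t ∈ (Q : Subgroup N) := ht
          rw [hQ] at ht'
          exact ht')).eq⟩
      (fun g hg => h.fus z hz.1 hz2 g hg) fun g hc hne w hw => ?_
    have hc' : Commute z ((g : G) * z * (g : G)⁻¹) := congrArg Subtype.val hc.eq
    set c := (g : G) * z * (g : G)⁻¹ with hcdef
    have hcH : c ∈ H := h.cent z hz.1 hz1 (mem_centralizer_singleton_iff.2 hc'.eq.symm)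
    have hc2 : orderOf c = 2 := by
      rw [← hz2]
      exact (MulAut.conj (g : G)).orderOf_eq z
    have hR : IsPGroup 2 ↥(zpowers c ⊔ zpowers z) := by
      refine IsPGroup.to_sup_of_normal_left' (IsPGroup.of_card (n := 1) (by rw [Nat.card_zpowers, hc2, pow_one]))
        (IsPGroup.of_card (n := 1) (by rw [Nat.card_zpowers, hz2, pow_one])) ?_
      refine zpowers_le.2 (centralizer_le_normalizer _ (mem_centralizer_iff.2 ?_))
      rintro _ ⟨i, rfl⟩
      exact (hc'.symm.zpow_left i).eq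
    obtain ⟨k, hk, hkT⟩ := h.exists_conj_into hR
      (sup_le (zpowers_le.2 hcH) (zpowers_le.2 (h.sylow_le (h.le hz.1))))
    have hm1 : k * z * k⁻¹ ∈ S := h.closed.2 z hz.1 k (hkT z (mem_sup_right (mem_zpowers z)))
    have hm2 : k * c * k⁻¹ ∈ S := by
      have e : k * c * k⁻¹ = (k * g) * z * (k * g)⁻¹ := by rw [hcdef]; group
      rw [e]
      exact h.closed.2 z hz.1 _ (e ▸ hkT c (mem_sup_left (mem_zpowers c)))
    have hne' : k * (z * c) * k⁻¹ ≠ 1 := fun e => hne (Subtype.ext (by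
      rw [conj_eq_one_iff, mul_eq_one_iff_inv_eq] at e
      show c = z
      rw [← e, inv_eq_of_mul_eq_one_right (by rw [← pow_two, ← hz2, pow_orderOf_eq_one])]))
    have h1 : k * (w : G) * k⁻¹ ∈ H := by
      refine h.cent _ ?_ hne' (mem_centralizer_singleton_iff.2 ?_)
      · rw [show k * (z * c) * k⁻¹ = k * z * k⁻¹ * (k * c * k⁻¹) by group]
        exact mul_mem hm1 hm2
      · have hw' : (w : G) * (z * c) = z * c * w := congrArg Subtype.val (mem_centralizer_singleton_iff.1 hw)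
        calc k * (w : G) * k⁻¹ * (k * (z * c) * k⁻¹) = k * ((w : G) * (z * c)) * k⁻¹ := by group
          _ = k * (z * c * w) * k⁻¹ := by rw [hw']
          _ = k * (z * c) * k⁻¹ * (k * w * k⁻¹) := by group
    show (w : G) ∈ H
    simpa [mul_assoc] using mul_mem (mul_mem (inv_mem hk) h1) hk
  have h2N : 2 ∣ Nat.card N := by
    rw [← hz2, ← Subgroup.orderOf_mk z hz.2]
    exact orderOf_dvd_natCard _
  refine ⟨N, ⟨hNn, inferInstance, hna, hC, hmeet, hNH, hM,
    good_of_embedded hM (CfsgLib.Orders.EPPOPrimes.exists_commuting_involutions hna h2N), fun w hw hwN hww => ?_⟩⟩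
  by_cases hw1 : w = 1
  · exact hw1 ▸ one_mem _
  obtain ⟨g, hg⟩ := isConj_iff.1 (CfsgLib.TwoGroups.SE.isConj_involutions hM
    (show orderOf (⟨z, hz.2⟩ : N) = 2 by rw [Subgroup.orderOf_mk, hz2])
    (show orderOf (⟨w, hwN⟩ : N) = 2 by
      rw [Subgroup.orderOf_mk]
      exact orderOf_eq_prime (by rw [pow_two, hww]) hw1))
  have hg' : (g : G) * z * (g : G)⁻¹ = w := congrArg Subtype.val hg
  rw [← hg']
  exact h.closed.2 z hz.1 g (hg'.symm ▸ hw)

end Two

end CfsgLib.TwoFusion.Foote
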